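import Mathlib

/-!
A group of special linear matrices of size two acting on an abelian group `V = U + wU` with the
upper unitriangular matrices fixing `U` and moving `V` into `U`: the action is a sum of natural
modules, so elements of trace different from two fix nothing.
-/

set_option autoImplicit false

namespace CfsgLib.FrakL

open Matrix

variable {F : Type*} [Field F]

/-- Upper unitriangular matrices. -/
def upperU (t : F) : SpecialLinearGroup (Fin 2) F := ⟨!![1, t; 0, 1], by simp [det_fin_two]⟩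

/-- Lower unitriangular matrices. -/
def lowerU (t : F) : SpecialLinearGroup (Fin 2) F := ⟨!![1, 0; t, 1], by simp [det_fin_two]⟩

/-- The Weyl element. -/
def weyl : SpecialLinearGroup (Fin 2) F := ⟨!![0, 1; -1, 0], by simp [det_fin_two]⟩

/-- Minus the identity. -/
def negId : SpecialLinearGroup (Fin 2) F := ⟨!![-1, 0; 0, -1], by simp [det_fin_two]⟩

/-- The diagonal torus. -/
def torus (t : Fˣ) : SpecialLinearGroup (Fin 2) F :=
  ⟨!![(t : F), 0; 0, ((t⁻¹ : Fˣ) : F)], by simp [det_fin_two]⟩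

theorem upperU_coe (t : F) : (upperU t : Matrix (Fin 2) (Fin 2) F) = !![1, t; 0, 1] := rfl
theorem lowerU_coe (t : F) : (lowerU t : Matrix (Fin 2) (Fin 2) F) = !![1, 0; t, 1] := rfl
theorem weyl_coe : ((weyl : SpecialLinearGroup (Fin 2) F) : Matrix (Fin 2) (Fin 2) F) = !![0, 1; -1, 0] := rfl
theorem negId_coe : ((negId : SpecialLinearGroup (Fin 2) F) : Matrix (Fin 2) (Fin 2) F) = !![-1, 0; 0, -1] := rfl
theorem torus_coe (t : Fˣ) :
    (torus t : Matrix (Fin 2) (Fin 2) F) = !![(t : F), 0; 0, ((t⁻¹ : Fˣ) : F)] := rfl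


theorem sl_ext {g h : SpecialLinearGroup (Fin 2) F} (h00 : g 0 0 = h 0 0) (h01 : g 0 1 = h 0 1)
    (h10 : g 1 0 = h 1 0) (h11 : g 1 1 = h 1 1) : g = h := by
  refine Subtype.ext (Matrix.ext fun i j => ?_)
  fin_cases i <;> fin_cases j <;> assumption

theorem upperU_add (a b : F) : upperU (a + b) = upperU a * upperU b := by
  apply sl_ext <;> simp [upperU_coe, add_comm]

theorem upperU_zero : upperU (0 : F) = 1 := by
  apply sl_ext <;> simp [upperU_coe]

theorem weyl_mul_weyl : (weyl : SpecialLinearGroup (Fin 2) F) * weyl = negId := by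
  apply sl_ext <;> simp [weyl_coe, negId_coe]

theorem negId_mul_self : (negId : SpecialLinearGroup (Fin 2) F) * negId = 1 := by
  apply sl_ext <;> simp [negId_coe]

theorem upperU_mul_negId (a : F) : upperU a * negId = negId * upperU a := by
  apply sl_ext <;> simp [upperU_coe, negId_coe]

theorem weyl_eq : (weyl : SpecialLinearGroup (Fin 2) F) = upperU 1 * lowerU (-1) * upperU 1 := by
  apply sl_ext <;> simp [upperU_coe, lowerU_coe, weyl_coe]

theorem lowerU_mul_weyl (s : F) : lowerU s * weyl = weyl * upperU (-s) := by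
  apply sl_ext <;> simp [upperU_coe, lowerU_coe, weyl_coe]

theorem torus_mul (a b : Fˣ) : torus (a * b) = torus a * torus b := by
  apply sl_ext <;> simp [torus_coe, mul_comm]

theorem torus_mul_weyl (t : Fˣ) :
    torus t * weyl = upperU (t : F) * lowerU (-((t⁻¹ : Fˣ) : F)) * upperU (t : F) := by
  apply sl_ext <;> simp [upperU_coe, lowerU_coe, weyl_coe, torus_coe]

theorem upperU_mul_torus (a : F) (t : Fˣ) :
    upperU a * torus t = torus t * upperU (((t⁻¹ : Fˣ) : F) * a * ((t⁻¹ : Fˣ) : F)) := by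
  apply sl_ext <;> simp [upperU_coe, torus_coe, mul_assoc, mul_left_comm]

theorem exists_factor (g : SpecialLinearGroup (Fin 2) F) :
    ∃ a b c d : F, g = upperU a * lowerU b * upperU c * lowerU d := by
  have hdet : g 0 0 * g 1 1 - g 0 1 * g 1 0 = 1 := by
    have := g.2; rwa [det_fin_two] at this
  by_cases hc : g 1 0 = 0
  · have hd : g 1 1 ≠ 0 := fun h => by simp [hc, h] at hdet
    refine ⟨(g 0 0 + g 0 1 - 1) / g 1 1, g 1 1, (g 1 1 - 1) / g 1 1, -1, ?_⟩
    rw [hc, mul_zero, sub_zero] at hdet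
    apply sl_ext <;> simp [upperU_coe, lowerU_coe, hc]
    all_goals field_simp
    all_goals first
      | ring1
      | linear_combination hdet
      | linear_combination -hdet
      | linear_combination 2 * hdet
      | linear_combination -2 * hdet
  · refine ⟨(g 0 0 - 1) / g 1 0, g 1 0, (g 1 1 - 1) / g 1 0, 0, ?_⟩
    apply sl_ext <;> simp [upperU_coe, lowerU_coe]
    all_goals field_simp
    all_goals first
      | ring1
      | linear_combination hdet
      | linear_combination -hdet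

variable {V : Type*} [AddCommGroup V]

/-- The hypotheses: a quadratic action with fixed part `U` and `V = U + wU` directly. -/
structure Quadratic (ρ : SpecialLinearGroup (Fin 2) F →* AddMonoid.End V) (U : AddSubgroup V) :
    Prop where
  fix : ∀ t, ∀ u ∈ U, ρ (upperU t) u = u
  quad : ∀ t v, ρ (upperU t) v - v ∈ U
  decomp : ∀ v, ∃ u ∈ U, ∃ u' ∈ U, v = u + ρ weyl u'
  disj : ∀ u ∈ U, ρ weyl u ∈ U → u = 0

variable {ρ : SpecialLinearGroup (Fin 2) F →* AddMonoid.End V} {U : AddSubgroup V}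

theorem rho_mul (g h : SpecialLinearGroup (Fin 2) F) (v : V) : ρ (g * h) v = ρ g (ρ h v) := by
  rw [map_mul]; rfl

theorem rho_one (v : V) : ρ (1 : SpecialLinearGroup (Fin 2) F) v = v := by
  rw [map_one]; rfl

/-- The scalar attached to an element of the field. -/
def scal (ρ : SpecialLinearGroup (Fin 2) F →* AddMonoid.End V) (t : F) (v : V) : V :=
  ρ weyl v - ρ (upperU t) (ρ weyl v)

theorem scal_mem (h : Quadratic ρ U) (t : F) (v : V) : scal ρ t v ∈ U := by
  rw [scal, ← neg_sub]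
  exact neg_mem (h.quad _ _)

theorem upperU_weyl (t : F) (u : V) : ρ (upperU t) (ρ weyl u) = ρ weyl u - scal ρ t u := by
  simp [scal]

theorem scal_zero (u : V) : scal ρ 0 u = 0 := by
  rw [scal, upperU_zero, rho_one, sub_self]

theorem scal_map_add (t : F) (u v : V) : scal ρ t (u + v) = scal ρ t u + scal ρ t v := by
  simp only [scal, map_add]; abel

theorem scal_map_neg (t : F) (u : V) : scal ρ t (-u) = -scal ρ t u := by
  simp only [scal, map_neg]; abel

theorem scal_map_zero (t : F) : scal ρ t 0 = 0 := by simp [scal]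

theorem scal_add (h : Quadratic ρ U) (a b : F) (u : V) :
    scal ρ (a + b) u = scal ρ a u + scal ρ b u := by
  have e : ρ (upperU (a + b)) (ρ weyl u) = ρ weyl u - scal ρ a u - scal ρ b u := by
    rw [upperU_add, rho_mul, upperU_weyl, map_sub, upperU_weyl, h.fix a _ (scal_mem h b u)]
  rw [upperU_weyl] at e
  have := congrArg (fun x => ρ weyl u - x) e
  simpa [sub_sub_cancel, sub_sub, add_comm] using this

theorem scal_neg (h : Quadratic ρ U) (a : F) (u : V) : scal ρ (-a) u = -scal ρ a u := by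
  refine eq_neg_of_add_eq_zero_left ?_
  rw [← scal_add h, neg_add_cancel, scal_zero]

theorem weyl_injective {u v : V} (e : ρ weyl u = ρ weyl v) : u = v := by
  have := congrArg (ρ (weyl : SpecialLinearGroup (Fin 2) F)⁻¹) e
  rwa [← rho_mul, ← rho_mul, inv_mul_cancel, rho_one, rho_one] at this

theorem lowerU_quad (h : Quadratic ρ U) (s : F) (v : V) :
    ∃ u ∈ U, ρ (lowerU s) v - v = ρ weyl u := by
  refine ⟨_, h.quad (-s) (ρ (weyl : SpecialLinearGroup (Fin 2) F)⁻¹ v), ?_⟩
  simp only [map_sub, ← rho_mul]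
  rw [← mul_assoc, ← lowerU_mul_weyl, mul_assoc, mul_inv_cancel, mul_one, rho_one]

theorem scal_one (h : Quadratic ρ U) {u : V} (hu : u ∈ U) : scal ρ 1 u = u := by
  have e : ρ (lowerU (-1)) u = ρ weyl u + scal ρ 1 u := by
    have h1 : ρ weyl u = ρ (upperU 1) (ρ (lowerU (-1)) u) := by
      conv_lhs => rw [weyl_eq]
      rw [rho_mul, rho_mul, h.fix 1 u hu]
    have h2 := congrArg (ρ (upperU (-1))) h1
    rw [← rho_mul (upperU (-1)) (upperU 1), ← upperU_add, neg_add_cancel, upperU_zero, rho_one,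
      upperU_weyl, scal_neg h, sub_neg_eq_add] at h2
    exact h2.symm
  obtain ⟨x, hx, hx'⟩ := lowerU_quad h (-1) u
  rw [e] at hx'
  have h3 : scal ρ 1 u - u = ρ weyl (x - u) := by
    rw [map_sub, ← hx']; abel
  have hmem : ρ weyl (x - u) ∈ U := h3 ▸ U.sub_mem (scal_mem h 1 u) hu
  have h4 := h.disj _ (U.sub_mem hx hu) hmem
  rw [h4, map_zero, sub_eq_zero] at h3
  exact h3

theorem mem_iff (h : Quadratic ρ U) (v : V) : v ∈ U ↔ ρ (upperU 1) v = v := by
  refine ⟨h.fix 1 v, fun hv => ?_⟩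
  obtain ⟨u, hu, u', hu', rfl⟩ := h.decomp v
  rw [map_add, h.fix 1 u hu, upperU_weyl, scal_one h hu'] at hv
  have : u' = 0 := by simpa using hv
  simp [this, hu]

theorem negId_apply (h : Quadratic ρ U) {u : V} (hu : u ∈ U) : ρ negId u = -u := by
  have hz : ρ negId u ∈ U := by
    rw [mem_iff h, ← rho_mul, upperU_mul_negId, rho_mul, h.fix 1 u hu]
  have hw : ρ (weyl : SpecialLinearGroup (Fin 2) F) (ρ negId u) = ρ weyl (ρ negId u) := rfl
  have h1 : ρ (lowerU (-1)) u = ρ weyl u + u := by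
    have h1 : ρ weyl u = ρ (upperU 1) (ρ (lowerU (-1)) u) := by
      conv_lhs => rw [weyl_eq]
      rw [rho_mul, rho_mul, h.fix 1 u hu]
    have h2 := congrArg (ρ (upperU (-1))) h1
    rw [← rho_mul (upperU (-1)) (upperU 1), ← upperU_add, neg_add_cancel, upperU_zero, rho_one,
      upperU_weyl, scal_neg h, sub_neg_eq_add, scal_one h hu] at h2
    exact h2.symm
  have h2 : ρ (lowerU (-1)) u = u - ρ weyl (ρ negId u) := by
    have e : u = ρ weyl (ρ weyl (ρ negId u)) := by
      rw [← rho_mul weyl, weyl_mul_weyl, ← rho_mul, negId_mul_self, rho_one]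
    conv_lhs => rw [e, ← rho_mul, lowerU_mul_weyl, rho_mul, neg_neg, upperU_weyl,
      scal_one h hz, map_sub, ← e]
  rw [h1] at h2
  have h3 : ρ weyl (u + ρ negId u) = 0 := by
    rw [map_add]
    have := congrArg (fun x => x - (u - ρ weyl (ρ negId u))) h2
    simp only [sub_self] at this
    rw [← this]; abel
  have := weyl_injective (h3.trans (map_zero _).symm)
  exact eq_neg_of_add_eq_zero_right this

theorem lowerU_apply (h : Quadratic ρ U) (s : F) {u : V} (hu : u ∈ U) :
    ρ (lowerU s) u = u - ρ weyl (scal ρ s u) := by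
  have e : u = ρ weyl (ρ weyl (-u)) := by
    rw [← rho_mul, weyl_mul_weyl, map_neg, negId_apply h hu, neg_neg]
  conv_lhs => rw [e, ← rho_mul, lowerU_mul_weyl, rho_mul, upperU_weyl, scal_neg h, scal_map_neg,
    neg_neg, map_sub, ← e]

theorem lowerU_weyl (h : Quadratic ρ U) (s : F) {u : V} (hu : u ∈ U) :
    ρ (lowerU s) (ρ weyl u) = ρ weyl u := by
  rw [← rho_mul, lowerU_mul_weyl, rho_mul, h.fix _ u hu]

theorem torus_apply (h : Quadratic ρ U) (t : Fˣ) {u : V} (hu : u ∈ U) :
    ρ (torus t) u = scal ρ t u := by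
  have hmem : ∀ x ∈ U, ρ (torus t) x ∈ U := fun x hx => by
    rw [mem_iff h, ← rho_mul, upperU_mul_torus, rho_mul, h.fix _ x hx]
  have h1 : ρ (torus t * weyl) (ρ weyl u) = -ρ (torus t) u := by
    rw [← rho_mul, mul_assoc, weyl_mul_weyl, rho_mul, negId_apply h hu, map_neg]
  set y := scal ρ (t : F) u with hy
  have hy' : y ∈ U := scal_mem h _ u
  set x := scal ρ ((t⁻¹ : Fˣ) : F) y with hx
  have hx' : x ∈ U := scal_mem h _ y
  have h2 : ρ (torus t * weyl) (ρ weyl u) =
      ρ weyl (u - x) + (scal ρ (t : F) x - y - y) := by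
    rw [torus_mul_weyl, rho_mul, rho_mul, upperU_weyl, ← hy, map_sub, lowerU_weyl h _ hu,
      lowerU_apply h _ hy', scal_neg h, ← hx, map_neg, sub_neg_eq_add, map_sub, map_add,
      upperU_weyl, ← hy, h.fix _ y hy', upperU_weyl, map_sub]
    abel
  have h3 : ρ weyl (u - x) ∈ U := by
    have : ρ weyl (u - x) = -ρ (torus t) u - (scal ρ (t : F) x - y - y) := by
      rw [← h1, h2]; abel
    rw [this]
    exact U.sub_mem (neg_mem (hmem u hu)) (U.sub_mem (U.sub_mem (scal_mem h _ x) hy') hy')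
  have h4 := h.disj _ (U.sub_mem hu hx') h3
  rw [h1, h4, map_zero, zero_add, ← sub_eq_zero.1 h4, ← hy] at h2
  rw [← neg_neg (ρ (torus t) u), h2]
  abel

theorem scal_mul (h : Quadratic ρ U) (a b : F) {u : V} (hu : u ∈ U) :
    scal ρ (a * b) u = scal ρ a (scal ρ b u) := by
  rcases eq_or_ne a 0 with rfl | ha
  · rw [zero_mul, scal_zero, scal_zero]
  rcases eq_or_ne b 0 with rfl | hb
  · rw [mul_zero, scal_zero, scal_map_zero]
  have := torus_apply h (Units.mk0 a ha * Units.mk0 b hb) hu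
  rw [torus_mul, rho_mul, torus_apply h _ hu, torus_apply h _ (scal_mem h _ u)] at this
  simpa using this.symm

/-- The matrix `g` acts by its entries. -/
def ActsBy (ρ : SpecialLinearGroup (Fin 2) F →* AddMonoid.End V) (U : AddSubgroup V)
    (g : SpecialLinearGroup (Fin 2) F) : Prop :=
  ∀ u₁ ∈ U, ∀ u₂ ∈ U, ρ g (u₁ - ρ weyl u₂) =
    (scal ρ (g 0 0) u₁ + scal ρ (g 0 1) u₂) - ρ weyl (scal ρ (g 1 0) u₁ + scal ρ (g 1 1) u₂)

theorem actsBy_mul (h : Quadratic ρ U) {g g' : SpecialLinearGroup (Fin 2) F} (hg : ActsBy ρ U g)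
    (hg' : ActsBy ρ U g') : ActsBy ρ U (g * g') := by
  intro u₁ h₁ u₂ h₂
  rw [rho_mul, hg' u₁ h₁ u₂ h₂,
    hg _ (U.add_mem (scal_mem h _ _) (scal_mem h _ _)) _ (U.add_mem (scal_mem h _ _) (scal_mem h _ _))]
  have hmul : ∀ i j, (g * g') i j = g i 0 * g' 0 j + g i 1 * g' 1 j := fun i j => by
    simp [Matrix.mul_apply]
  simp only [hmul, scal_map_add, scal_add h, scal_mul h _ _ h₁, scal_mul h _ _ h₂]
  congr 1
  · abel
  · congr 1; abel

theorem actsBy (h : Quadratic ρ U) (g : SpecialLinearGroup (Fin 2) F) : ActsBy ρ U g := by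
  have hX : ∀ t, ActsBy ρ U (upperU t) := fun t u₁ h₁ u₂ h₂ => by
    simp [upperU_coe, scal_one h h₁, scal_one h h₂, scal_zero, map_sub, h.fix t u₁ h₁, upperU_weyl]
    abel
  have hY : ∀ t, ActsBy ρ U (lowerU t) := fun t u₁ h₁ u₂ h₂ => by
    simp [lowerU_coe, scal_one h h₁, scal_one h h₂, scal_zero, map_sub, lowerU_weyl h t h₂,
      lowerU_apply h t h₁, map_add]
    abel
  obtain ⟨a, b, c, d, rfl⟩ := exists_factor g
  exact actsBy_mul h (actsBy_mul h (actsBy_mul h (hX a) (hY b)) (hX c)) (hY d)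

theorem eq_zero_of_fixed (h : Quadratic ρ U) {g : SpecialLinearGroup (Fin 2) F}
    (htr : g 0 0 + g 1 1 ≠ 2) {v : V} (hv : ρ g v = v) : v = 0 := by
  obtain ⟨u₁, h₁, u', hu', rfl⟩ := h.decomp v
  obtain ⟨u₂, h₂, rfl⟩ : ∃ u₂ ∈ U, u' = -u₂ := ⟨-u', neg_mem hu', (neg_neg _).symm⟩
  rw [map_neg, ← sub_eq_add_neg] at hv ⊢
  rw [actsBy h g u₁ h₁ u₂ h₂] at hv
  set a := g 0 0
  set b := g 0 1
  set c := g 1 0
  set d := g 1 1
  have hdet : a * d - b * c = 1 := by
    have := g.2; rwa [det_fin_two] at this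
  have hU1 := U.add_mem (scal_mem h a u₁) (scal_mem h b u₂)
  have hU2 := U.add_mem (scal_mem h c u₁) (scal_mem h d u₂)
  have hdiff : scal ρ c u₁ + scal ρ d u₂ = u₂ := by
    refine sub_eq_zero.1 (h.disj _ (U.sub_mem hU2 h₂) ?_)
    have : ρ weyl (scal ρ c u₁ + scal ρ d u₂ - u₂) = scal ρ a u₁ + scal ρ b u₂ - u₁ := by
      rw [map_sub, eq_comm, ← sub_eq_zero, ← sub_eq_zero.2 hv]; abel
    rw [this]; exact U.sub_mem hU1 h₁
  rw [hdiff] at hv
  have hsum : scal ρ a u₁ + scal ρ b u₂ = u₁ := sub_left_injective hv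
  have hm1 : ∀ x ∈ U, ∀ z, scal ρ (z - 1) x = scal ρ z x - x := fun x hx z => by
    rw [sub_eq_add_neg, scal_add h, scal_neg h, scal_one h hx, ← sub_eq_add_neg]
  have eA : scal ρ (a - 1) u₁ + scal ρ b u₂ = 0 := by
    rw [hm1 _ h₁, sub_add_eq_add_sub, hsum, sub_self]
  have eB : scal ρ c u₁ + scal ρ (d - 1) u₂ = 0 := by
    rw [hm1 _ h₂, ← add_sub_assoc, hdiff, sub_self]
  have kill : ∀ x ∈ U, ∀ z : F, z ≠ 0 → scal ρ z x = 0 → x = 0 := fun x hx z hz e => by
    rw [← scal_one h hx, ← inv_mul_cancel₀ hz, scal_mul h _ _ hx, e, scal_map_zero]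
  have hne : 2 - (a + d) ≠ 0 := sub_ne_zero.2 (Ne.symm htr)
  have k1 : u₁ = 0 := by
    refine kill u₁ h₁ _ hne ?_
    rw [show 2 - (a + d) = (d - 1) * (a - 1) + -(b * c) by linear_combination -hdet, scal_add h,
      scal_neg h, scal_mul h _ _ h₁, scal_mul h _ _ h₁, eq_neg_of_add_eq_zero_left eA,
      eq_neg_of_add_eq_zero_left eB, scal_map_neg, scal_map_neg, ← scal_mul h _ _ h₂,
      ← scal_mul h _ _ h₂, mul_comm b (d - 1)]
    abel
  have k2 : u₂ = 0 := by
    refine kill u₂ h₂ _ hne ?_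
    rw [show 2 - (a + d) = (a - 1) * (d - 1) + -(c * b) by linear_combination -hdet, scal_add h,
      scal_neg h, scal_mul h _ _ h₂, scal_mul h _ _ h₂, eq_neg_of_add_eq_zero_right eA,
      eq_neg_of_add_eq_zero_right eB, scal_map_neg, scal_map_neg, ← scal_mul h _ _ h₁,
      ← scal_mul h _ _ h₁, mul_comm c (a - 1)]
    abel
  rw [k1, k2, map_zero, sub_zero]

end CfsgLib.FrakL
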