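import Mathlib

/-!
A group `H` with a normal `p`-subgroup `A` and an elementary abelian subgroup `Y` normalised by `A`,
lying in a unique maximal subgroup `N(Y)`, with `A` the normal closure of `Y ∩ A`: the structure of
`A` modulo `Y ∩ Z(H)`.
-/

set_option autoImplicit false

namespace CfsgLib.FrakL

variable {H : Type*} [Group H]

/-- The hypotheses on `H`, `Y`, `A`. -/
structure Data (p : ℕ) (Y A : Subgroup H) [A.Normal] : Prop where
  comm : ∀ x ∈ Y, ∀ y ∈ Y, x * y = y * x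
  expo : ∀ y ∈ Y, y ^ p = 1
  isP : IsPGroup p A
  core : ∀ N : Subgroup H, N.Normal → IsPGroup p N → N ≤ A
  normY : A ≤ Subgroup.normalizer (Y : Set H)
  gen : Subgroup.normalClosure ((Y ⊓ A : Subgroup H) : Set H) = A
  cent : Subgroup.centralizer (A : Set H) ≤ A
  closure : Subgroup.normalClosure (Y : Set H) = ⊤
  proper : Subgroup.normalizer (Y : Set H) ≠ ⊤
  maxl : ∀ X : Subgroup H, Y ≤ X → X ≠ ⊤ → X ≤ Subgroup.normalizer (Y : Set H)
  bound : ∀ S : Subgroup (H ⧸ A), IsPGroup p S →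
    {s : H ⧸ A | s ∈ S ∧ s ^ p = 1}.ncard ≤ Nat.card (Y.map (QuotientGroup.mk' A))

/-- The conjugate `g Y g⁻¹`. -/
def conjSub (Y : Subgroup H) (g : H) : Subgroup H := Y.comap (MulAut.conj g⁻¹).toMonoidHom

theorem mem_conjSub {Y : Subgroup H} {g x : H} : x ∈ conjSub Y g ↔ g⁻¹ * x * g ∈ Y := by
  simp [conjSub, Subgroup.mem_comap]

/-- `Y ∩ Z(H)`. -/
def fixSub (Y : Subgroup H) : Subgroup H := Y ⊓ Subgroup.center H

theorem mem_fixSub {Y : Subgroup H} {x : H} : x ∈ fixSub Y ↔ x ∈ Y ∧ ∀ h, h * x = x * h := by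
  simp [fixSub, Subgroup.mem_center_iff]

theorem fix_conj {Y : Subgroup H} {c : H} (hc : c ∈ fixSub Y) (h : H) : h * c * h⁻¹ = c := by
  rw [(mem_fixSub.1 hc).2 h, mul_inv_cancel_right]

instance fixSub_normal {Y : Subgroup H} : (fixSub Y).Normal :=
  ⟨fun c hc h => by rw [fix_conj hc h]; exact hc⟩

/-- The elements fixing `v` modulo `Y ∩ Z(H)`. -/
def fixStab (Y : Subgroup H) (v : H) : Subgroup H :=
  (Subgroup.centralizer ({QuotientGroup.mk' (fixSub Y) v} : Set (H ⧸ fixSub Y))).comap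
    (QuotientGroup.mk' (fixSub Y))

theorem mem_fixStab {Y : Subgroup H} {v x : H} :
    x ∈ fixStab Y v ↔ x * v * x⁻¹ * v⁻¹ ∈ fixSub Y := by
  rw [fixStab, Subgroup.mem_comap, Subgroup.mem_centralizer_singleton_iff,
    ← QuotientGroup.eq_one_iff (N := fixSub Y)]
  simp only [QuotientGroup.mk'_apply, QuotientGroup.mk_mul, QuotientGroup.mk_inv,
    mul_inv_eq_iff_eq_mul, one_mul]

theorem mem_fixStab_comm {Y : Subgroup H} {v x : H} : x ∈ fixStab Y v ↔ v ∈ fixStab Y x := by
  simp only [fixStab, Subgroup.mem_comap, Subgroup.mem_centralizer_singleton_iff]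
  exact eq_comm

theorem mem_fixStab_of_commute {Y : Subgroup H} {v x : H} (h : x * v = v * x) : x ∈ fixStab Y v := by
  rw [mem_fixStab, h, mul_inv_cancel_right, mul_inv_cancel]
  exact one_mem _

namespace Data

variable {p : ℕ} [Fact p.Prime] {Y A : Subgroup H} [hAn : A.Normal] (d : Data p Y A)
include d

omit [Fact p.Prime] in
theorem conjSub_expo {g x : H} (hx : x ∈ conjSub Y g) : x ^ p = 1 := by
  have h := d.expo _ (mem_conjSub.1 hx)
  have e : g⁻¹ * x * g = g⁻¹ * x * g⁻¹⁻¹ := by rw [inv_inv]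
  rw [e, conj_pow, inv_inv, mul_eq_one_iff_eq_inv, mul_eq_left] at h
  exact h

omit [Fact p.Prime] in
theorem conjSub_comm {g x y : H} (hx : x ∈ conjSub Y g) (hy : y ∈ conjSub Y g) :
    x * y = y * x := by
  have h := d.comm _ (mem_conjSub.1 hx) _ (mem_conjSub.1 hy)
  have : g⁻¹ * (x * y) * g = g⁻¹ * (y * x) * g := by
    calc g⁻¹ * (x * y) * g = g⁻¹ * x * g * (g⁻¹ * y * g) := by group
      _ = _ := by rw [h]; group
  simpa using this

omit [Fact p.Prime] in
theorem conjSub_le_of_mem_normalizer {g : H} (hg : g ∈ Subgroup.normalizer (Y : Set H)) :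
    conjSub Y g = Y := by
  ext x
  rw [mem_conjSub]
  conv_rhs => rw [Subgroup.mem_normalizer_iff.1 (inv_mem hg) x, inv_inv]

omit [Fact p.Prime] in
theorem conj_mem_inf {a u : H} (ha : a ∈ A) (hu : u ∈ Y ⊓ A) : a * u * a⁻¹ ∈ Y ⊓ A :=
  ⟨(Subgroup.mem_normalizer_iff.1 (d.normY ha) u).1 hu.1, hAn.conj_mem u hu.2 a⟩

omit [Fact p.Prime] in
theorem conj_mem_conjSub {g a v : H} (ha : a ∈ A) (hv : v ∈ conjSub Y g) :
    a * v * a⁻¹ ∈ conjSub Y g := by
  rw [mem_conjSub] at hv ⊢
  have h := (Subgroup.mem_normalizer_iff.1 (d.normY (hAn.conj_mem a ha g⁻¹)) _).1 hv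
  rw [inv_inv] at h
  convert h using 1; group

omit [Fact p.Prime] in
theorem not_le : ¬ Y ≤ A := fun h => by
  have hA : A = ⊤ := top_le_iff.1 (d.closure ▸ Subgroup.normalClosure_le_normal h)
  exact d.proper (top_le_iff.1 (hA ▸ d.normY))

omit [Fact p.Prime] in
theorem exists_not_mem_normalizer : ∃ g, g ∉ Subgroup.normalizer (Y : Set H) := by
  by_contra h
  push Not at h
  exact d.proper ((Subgroup.eq_top_iff' _).2 h)

omit [Fact p.Prime] in
theorem map_conjSub (g : H) : (conjSub Y g).map (QuotientGroup.mk' A) =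
    (Y.map (QuotientGroup.mk' A)).map (MulAut.conj (QuotientGroup.mk' A g)).toMonoidHom := by
  ext s
  simp only [Subgroup.mem_map, MulEquiv.coe_toMonoidHom, MulAut.conj_apply, mem_conjSub]
  constructor
  · rintro ⟨x, hx, rfl⟩
    exact ⟨_, ⟨_, hx, rfl⟩, by simp only [map_mul, map_inv]; group⟩
  · rintro ⟨_, ⟨y, hy, rfl⟩, rfl⟩
    exact ⟨g * y * g⁻¹, by simpa [mul_assoc] using hy, by simp only [map_mul, map_inv]⟩

variable [Finite H]

/-- An element of order dividing `p` normalising the image of a conjugate of `Y` lies in it. -/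
theorem mem_of_normalizes {g : H} {s : H ⧸ A} (hs : s ^ p = 1)
    (hn : s ∈ Subgroup.normalizer (((conjSub Y g).map (QuotientGroup.mk' A)) : Set (H ⧸ A))) :
    s ∈ (conjSub Y g).map (QuotientGroup.mk' A) := by
  set P := (conjSub Y g).map (QuotientGroup.mk' A) with hP
  have hPexp : ∀ x ∈ P, x ^ p = 1 := by
    rintro _ ⟨x, hx, rfl⟩
    rw [← map_pow, d.conjSub_expo hx, map_one]
  have hPp : IsPGroup p P := fun x => ⟨1, Subtype.ext (by
    rw [pow_one]; simpa using hPexp _ x.2)⟩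
  have hsp : IsPGroup p (Subgroup.zpowers s) := by
    intro x
    refine ⟨1, ?_⟩
    obtain ⟨x, k, rfl⟩ := x
    refine Subtype.ext ?_
    rw [pow_one]
    simp only [SubgroupClass.coe_pow, OneMemClass.coe_one]
    rw [← zpow_natCast (s ^ k), ← zpow_mul, mul_comm, zpow_mul, zpow_natCast, hs, one_zpow]
  have hb := d.bound _ (hsp.to_sup_of_normal_right' hPp (Subgroup.zpowers_le.2 hn))
  by_contra hnot
  have hsub : insert s (P : Set (H ⧸ A)) ⊆
      {x | x ∈ Subgroup.zpowers s ⊔ P ∧ x ^ p = 1} := by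
    rintro x (rfl | hx)
    · exact ⟨Subgroup.mem_sup_left (Subgroup.mem_zpowers _), hs⟩
    · exact ⟨Subgroup.mem_sup_right hx, hPexp x hx⟩
  have h1 := (Set.ncard_le_ncard hsub (Set.toFinite _)).trans hb
  rw [Set.ncard_insert_of_notMem (by exact hnot) (Set.toFinite _), ← Nat.card_coe_set_eq] at h1
  have h2 : Nat.card P = Nat.card (Y.map (QuotientGroup.mk' A)) := by
    rw [hP, d.map_conjSub, Subgroup.card_map_of_injective (MulEquiv.injective _)]
  change Nat.card P + 1 ≤ _ at h1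
  omega

omit [Fact p.Prime] [Finite H] in
theorem mem_normalizer_of_map {g : H}
    (hg : QuotientGroup.mk' A g ∈
      Subgroup.normalizer ((Y.map (QuotientGroup.mk' A)) : Set (H ⧸ A))) :
    g ∈ Subgroup.normalizer (Y : Set H) := by
  set P := Y.map (QuotientGroup.mk' A) with hP
  have hle : Y ≤ (Subgroup.normalizer (P : Set (H ⧸ A))).comap (QuotientGroup.mk' A) :=
    fun y hy => Subgroup.le_normalizer (Subgroup.mem_map_of_mem _ hy)
  refine d.maxl _ hle (fun htop => d.proper ?_) hg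
  have hPn : P.Normal := by
    refine ⟨fun x hx s => ?_⟩
    obtain ⟨h, rfl⟩ := QuotientGroup.mk'_surjective A s
    have : h ∈ (Subgroup.normalizer (P : Set (H ⧸ A))).comap (QuotientGroup.mk' A) := by
      rw [htop]; trivial
    exact (Subgroup.mem_normalizer_iff.1 this x).1 hx
  have h1 : Subgroup.normalClosure (Y : Set H) ≤ P.comap (QuotientGroup.mk' A) :=
    Subgroup.normalClosure_le_normal fun y hy => Subgroup.mem_map_of_mem _ hy
  rw [d.closure, hP, Subgroup.comap_map_eq, QuotientGroup.ker_mk'] at h1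
  exact top_le_iff.1 (h1.trans (sup_le Subgroup.le_normalizer d.normY))

theorem sup_eq_top {g : H} (hg : g ∉ Subgroup.normalizer (Y : Set H)) :
    Y ⊔ conjSub Y g = ⊤ := by
  by_contra hne
  have hle : conjSub Y g ≤ Subgroup.normalizer (Y : Set H) :=
    le_sup_right.trans (d.maxl _ le_sup_left hne)
  have h1 : conjSub Y 1 = Y := d.conjSub_le_of_mem_normalizer (one_mem _)
  have hsub : (conjSub Y g).map (QuotientGroup.mk' A) ≤ Y.map (QuotientGroup.mk' A) := by
    rintro _ ⟨x, hx, rfl⟩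
    have := d.mem_of_normalizes (g := 1) (s := QuotientGroup.mk' A x)
      (by rw [← map_pow, d.conjSub_expo hx, map_one])
      (by rw [h1]; exact Subgroup.le_normalizer_map _ ⟨x, hle hx, rfl⟩)
    rwa [h1] at this
  apply hg
  refine d.mem_normalizer_of_map (Subgroup.mem_normalizer_iff.2 fun x => ?_)
  have heq := Subgroup.eq_of_le_of_card_ge hsub (le_of_eq (by
    rw [d.map_conjSub, Subgroup.card_map_of_injective (f := (MulAut.conj (QuotientGroup.mk' A g)).toMonoidHom)
      (MulEquiv.injective _)]))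
  rw [d.map_conjSub] at heq
  constructor
  · intro hx
    rw [← heq]
    exact ⟨x, hx, rfl⟩
  · intro hx
    rw [← heq] at hx
    obtain ⟨y, hy, he⟩ := hx
    have : y = x := (MulAut.conj (QuotientGroup.mk' A g)).injective he
    exact this ▸ hy

theorem mem_fix_of_mem {g x : H} (hg : g ∉ Subgroup.normalizer (Y : Set H)) (hx : x ∈ Y)
    (hx' : x ∈ conjSub Y g) : x ∈ fixSub Y := by
  refine mem_fixSub.2 ⟨hx, fun h => ?_⟩
  have hle : Y ⊔ conjSub Y g ≤ Subgroup.centralizer ({x} : Set H) :=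
    sup_le (fun y hy => Subgroup.mem_centralizer_singleton_iff.2 (d.comm y hy x hx))
      (fun y hy => Subgroup.mem_centralizer_singleton_iff.2 (d.conjSub_comm hy hx'))
  rw [d.sup_eq_top hg] at hle
  exact Subgroup.mem_centralizer_singleton_iff.1 (hle trivial)

omit [Fact p.Prime] [Finite H] in
theorem inf_not_le : ¬ Y ⊓ A ≤ fixSub Y := by
  intro h
  have hA : A ≤ Subgroup.center H :=
    d.gen ▸ Subgroup.normalClosure_le_normal fun x hx => (h hx).2
  exact d.not_le fun y _ => d.cent (Subgroup.mem_centralizer_iff.2 fun a ha =>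
    (Subgroup.mem_center_iff.1 (hA ha) y).symm)

omit [Fact p.Prime] [Finite H] in
theorem fix_le : fixSub Y ≤ Y ⊓ A := by
  intro c hc
  exact ⟨hc.1, d.cent (Subgroup.mem_centralizer_iff.2 fun a _ => (mem_fixSub.1 hc).2 a)⟩

theorem inf_comm {u a : H} (hu : u ∈ Y ⊓ A) (ha : a ∈ A) : a ∈ fixStab Y u := by
  have hle : Subgroup.normalClosure ((Y ⊓ A : Subgroup H) : Set H) ≤ fixStab Y u := by
    rw [Subgroup.normalClosure, Subgroup.closure_le]
    intro w hw
    obtain ⟨v, hv, hconj⟩ := Group.mem_conjugatesOfSet_iff.1 hw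
    obtain ⟨k, rfl⟩ := isConj_iff.1 hconj
    have hwA : k * v * k⁻¹ ∈ A := hAn.conj_mem v hv.2 k
    by_cases hk : k ∈ Subgroup.normalizer (Y : Set H)
    · exact mem_fixStab_of_commute (d.comm _ ((Subgroup.mem_normalizer_iff.1 hk v).1 hv.1) _ hu.1)
    · have hwk : k * v * k⁻¹ ∈ conjSub Y k := mem_conjSub.2 (by simpa [mul_assoc] using hv.1)
      rw [SetLike.mem_coe, mem_fixStab]
      refine d.mem_fix_of_mem hk ?_ ?_
      · exact mul_mem (d.conj_mem_inf hwA hu).1 (inv_mem hu.1)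
      · have := mul_mem hwk (d.conj_mem_conjSub hu.2 (inv_mem hwk))
        simpa [mul_assoc] using this
  rw [d.gen] at hle
  exact hle ha

/-- `A` is abelian modulo `Y ∩ Z(H)`. -/
theorem comm_mod {a b : H} (ha : a ∈ A) (hb : b ∈ A) : a ∈ fixStab Y b := by
  rw [mem_fixStab_comm]
  have hle : Subgroup.normalClosure ((Y ⊓ A : Subgroup H) : Set H) ≤ fixStab Y a := by
    rw [Subgroup.normalClosure, Subgroup.closure_le]
    intro w hw
    obtain ⟨v, hv, hconj⟩ := Group.mem_conjugatesOfSet_iff.1 hw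
    obtain ⟨k, rfl⟩ := isConj_iff.1 hconj
    have h := mem_fixStab.1 (d.inf_comm hv (hAn.conj_mem a ha k⁻¹))
    rw [inv_inv] at h
    rw [SetLike.mem_coe, mem_fixStab_comm, mem_fixStab]
    convert fixSub_normal.conj_mem _ h k using 1
    group
  rw [d.gen] at hle
  exact hle hb

/-- `A` has exponent `p` modulo `Y ∩ Z(H)`. -/
theorem pow_mod {a : H} (ha : a ∈ A) : a ^ p ∈ fixSub Y := by
  let K : Subgroup H :=
    { carrier := {h | h ∈ A ∧ h ^ p ∈ fixSub Y}
      one_mem' := ⟨one_mem _, by rw [one_pow]; exact one_mem _⟩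
      mul_mem' := by
        rintro x y ⟨hx, hx'⟩ ⟨hy, hy'⟩
        refine ⟨mul_mem hx hy, ?_⟩
        have hc : Commute (x : H ⧸ fixSub Y) y :=
          Subgroup.mem_centralizer_singleton_iff.1 (d.comm_mod hx hy : x ∈ fixStab Y y)
        rw [← QuotientGroup.eq_one_iff] at hx' hy' ⊢
        rw [QuotientGroup.mk_pow, QuotientGroup.mk_mul, hc.mul_pow, ← QuotientGroup.mk_pow,
          ← QuotientGroup.mk_pow, hx', hy', one_mul]
      inv_mem' := by
        rintro x ⟨hx, hx'⟩
        exact ⟨inv_mem hx, by rw [inv_pow]; exact inv_mem hx'⟩ }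
  have hle : Subgroup.normalClosure ((Y ⊓ A : Subgroup H) : Set H) ≤ K := by
    rw [Subgroup.normalClosure, Subgroup.closure_le]
    intro w hw
    obtain ⟨v, hv, hconj⟩ := Group.mem_conjugatesOfSet_iff.1 hw
    obtain ⟨k, rfl⟩ := isConj_iff.1 hconj
    refine ⟨hAn.conj_mem v hv.2 k, ?_⟩
    rw [conj_pow, d.expo v hv.1, mul_one, mul_inv_cancel]
    exact one_mem _
  rw [d.gen] at hle
  exact (hle ha).2

/-- `A` is the product of `Y ∩ A` and any other conjugate of it. -/
theorem decomp {g : H} (hg : g ∉ Subgroup.normalizer (Y : Set H)) {a : H} (ha : a ∈ A) :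
    ∃ u ∈ Y ⊓ A, ∃ v ∈ conjSub Y g ⊓ A, a = u * v := by
  set U := Y ⊓ A with hU
  set V := conjSub Y g ⊓ A with hV
  set W := U ⊔ V with hW
  have key : ∀ z : H, (∀ u ∈ U, z * u * z⁻¹ ∈ W) → (∀ v ∈ V, z * v * z⁻¹ ∈ W) →
      ∀ w ∈ W, z * w * z⁻¹ ∈ W := by
    intro z h1 h2 w hw
    have : W ≤ W.comap (MulAut.conj z).toMonoidHom :=
      sup_le (fun u hu => h1 u hu) (fun v hv => h2 v hv)
    exact this hw
  have hYW : ∀ z ∈ Y, ∀ w ∈ W, z * w * z⁻¹ ∈ W := by
    intro z hz
    refine key z (fun u hu => ?_) (fun v hv => ?_)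
    · rw [d.comm z hz u hu.1, mul_inv_cancel_right]; exact Subgroup.mem_sup_left hu
    · have h : z * v * z⁻¹ * v⁻¹ ∈ U := ⟨by
        have := mul_mem hz ((Subgroup.mem_normalizer_iff.1 (d.normY hv.2) _).1 (inv_mem hz))
        simpa [mul_assoc] using this, mul_mem (hAn.conj_mem v hv.2 z) (A.inv_mem hv.2)⟩
      have := mul_mem (Subgroup.mem_sup_left h : _ ∈ W) (Subgroup.mem_sup_right hv)
      simpa using this
  have hgW : ∀ z ∈ conjSub Y g, ∀ w ∈ W, z * w * z⁻¹ ∈ W := by
    intro z hz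
    refine key z (fun u hu => ?_) (fun v hv => ?_)
    · have h : z * u * z⁻¹ * u⁻¹ ∈ V := ⟨by
        have := mul_mem hz (d.conj_mem_conjSub hu.2 (inv_mem hz))
        simpa [mul_assoc] using this, mul_mem (hAn.conj_mem u hu.2 z) (A.inv_mem hu.2)⟩
      have := mul_mem (Subgroup.mem_sup_right h : _ ∈ W) (Subgroup.mem_sup_left hu)
      simpa using this
    · rw [d.conjSub_comm hz hv.1, mul_inv_cancel_right]; exact Subgroup.mem_sup_right hv
  have hnorm : ∀ S : Subgroup H, (∀ z ∈ S, ∀ w ∈ W, z * w * z⁻¹ ∈ W) →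
      S ≤ Subgroup.normalizer (W : Set H) := fun S h z hz =>
    Subgroup.mem_normalizer_iff.2 fun w => ⟨h z hz w, fun hw => by
      simpa [mul_assoc] using h z⁻¹ (inv_mem hz) _ hw⟩
  have htop : Subgroup.normalizer (W : Set H) = ⊤ :=
    top_le_iff.1 (d.sup_eq_top hg ▸ sup_le (hnorm Y hYW) (hnorm _ hgW))
  haveI hWn : W.Normal := Subgroup.normalizer_eq_top_iff.1 htop
  have hAW : A ≤ W := d.gen ▸ Subgroup.normalClosure_le_normal fun u hu => Subgroup.mem_sup_left hu
  have hVU : V ≤ Subgroup.normalizer (U : Set H) := fun v hv => Subgroup.mem_normalizer_iff.2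
    fun u => ⟨fun hu => d.conj_mem_inf hv.2 hu, fun hu => by
      simpa [hU, mul_assoc] using d.conj_mem_inf (A.inv_mem hv.2) hu⟩
  have h := hAW ha
  rw [hW, ← SetLike.mem_coe, Subgroup.coe_mul_of_right_le_normalizer_left _ _ hVU] at h
  obtain ⟨u, hu, v, hv, rfl⟩ := h
  exact ⟨u, hu, v, hv, rfl⟩

/-- Only elements of `A` centralise `A` modulo `Y ∩ Z(H)`. -/
theorem mem_of_centralizes {x : H} (hx : ∀ a ∈ A, x ∈ fixStab Y a) : x ∈ A := by
  set K : Subgroup H := ⨅ a : A, fixStab Y (a : H) with hK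
  have hmem : ∀ y, y ∈ K ↔ ∀ a ∈ A, y ∈ fixStab Y a := fun y => by
    simp [hK, Subgroup.mem_iInf]
  have hKn : K.Normal := ⟨fun y hy h => (hmem _).2 fun a ha => mem_fixStab.2 (by
    have := fixSub_normal.conj_mem _
      (mem_fixStab.1 ((hmem y).1 hy _ (hAn.conj_mem a ha h⁻¹))) h
    rw [inv_inv] at this
    convert this using 1
    group)⟩
  have hKp : IsPGroup p K := by
    rintro ⟨y, hy⟩
    have hn0 : orderOf y ≠ 0 := (orderOf_pos y).ne'
    set k := (orderOf y).factorization p with hk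
    refine ⟨k, Subtype.ext ?_⟩
    simp only [SubgroupClass.coe_pow, OneMemClass.coe_one]
    set z := y ^ p ^ k with hz
    set m := orderOf y / p ^ k with hm
    have hzm : z ^ m = 1 := by
      rw [hz, ← pow_mul, hm, Nat.mul_div_cancel' (Nat.ordProj_dvd _ _), pow_orderOf_eq_one]
    have hcop : Nat.Coprime p m := Nat.coprime_ordCompl Fact.out hn0
    have hzA : z ∈ A := by
      refine d.cent (Subgroup.mem_centralizer_iff.2 fun a ha => ?_)
      set c := z * a * z⁻¹ * a⁻¹ with hc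
      have hcC : c ∈ fixSub Y := mem_fixStab.1 ((hmem z).1 (pow_mem hy _) a ha)
      have hit : ∀ i : ℕ, z ^ i * a * (z ^ i)⁻¹ = c ^ i * a := by
        intro i
        induction i with
        | zero => simp
        | succ i ih =>
          calc z ^ (i + 1) * a * (z ^ (i + 1))⁻¹ = z * (z ^ i * a * (z ^ i)⁻¹) * z⁻¹ := by
                rw [pow_succ']; group
            _ = (z * c ^ i * z⁻¹) * (z * a * z⁻¹) := by rw [ih]; group
            _ = c ^ i * (z * a * z⁻¹) := by rw [fix_conj (pow_mem hcC i) z]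
            _ = c ^ (i + 1) * a := by rw [pow_succ, hc]; group
      have h1 := hit m
      rw [hzm, one_mul, inv_one, mul_one, eq_comm, mul_eq_right] at h1
      have h2 : c = 1 := by
        rw [← orderOf_eq_one_iff]
        exact Nat.eq_one_of_dvd_coprimes hcop (orderOf_dvd_of_pow_eq_one (d.expo c hcC.1))
          (orderOf_dvd_of_pow_eq_one h1)
      rw [hc, mul_inv_eq_one, mul_inv_eq_iff_eq_mul] at h2
      exact h2.symm
    obtain ⟨j, hj⟩ := d.isP ⟨z, hzA⟩
    have hj' : z ^ p ^ j = 1 := congrArg Subtype.val hj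
    rw [← orderOf_eq_one_iff]
    exact Nat.eq_one_of_dvd_coprimes (hcop.pow_left j) (orderOf_dvd_of_pow_eq_one hj')
      (orderOf_dvd_of_pow_eq_one hzm)
  exact d.core K hKn hKp ((hmem x).2 hx)

/-- An element of `Y` outside `A` fixes modulo `Y ∩ Z(H)` only `Y ∩ A`. -/
theorem mem_inf_of_fixed {y a : H} (hy : y ∈ Y) (hyA : y ∉ A) (ha : a ∈ A)
    (hfix : y ∈ fixStab Y a) : a ∈ Y ⊓ A := by
  obtain ⟨g, hg⟩ := d.exists_not_mem_normalizer
  obtain ⟨u, hu, v, hv, rfl⟩ := d.decomp hg ha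
  have hyv : y ∈ fixStab Y v := by
    rw [mem_fixStab] at hfix ⊢
    have e : y * (u * v) * y⁻¹ * (u * v)⁻¹ = u * (y * v * y⁻¹ * v⁻¹) * u⁻¹ := by
      have h1 : y * u = u * y := d.comm y hy u hu.1
      calc y * (u * v) * y⁻¹ * (u * v)⁻¹ = (y * u) * v * y⁻¹ * v⁻¹ * u⁻¹ := by group
        _ = _ := by rw [h1]; group
    rw [e] at hfix
    simpa [mul_assoc] using fixSub_normal.conj_mem _ hfix u⁻¹
  set S := fixStab Y v with hS
  have hgS : conjSub Y g ≤ S := fun x hx => mem_fixStab_of_commute (d.conjSub_comm hx hv.1)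
  by_cases htop : S = ⊤
  · have h : g⁻¹ ∈ S := htop ▸ Subgroup.mem_top _
    rw [hS, mem_fixStab, inv_inv] at h
    have hvY : v ∈ Y := by
      have := mul_mem (Y.inv_mem (mem_fixSub.1 h).1) (mem_conjSub.1 hv.1)
      simpa [mul_assoc] using this
    have hvC := d.mem_fix_of_mem hg hvY hv.1
    exact ⟨mul_mem hu.1 hvC.1, mul_mem hu.2 hv.2⟩
  · exfalso
    have hle : Y ≤ S.comap (MulAut.conj g).toMonoidHom := fun x hx => hgS (mem_conjSub.2 (by
      simpa [mul_assoc] using hx))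
    have hS' : S.comap (MulAut.conj g).toMonoidHom ≠ ⊤ := fun h => htop (by
      rw [eq_top_iff]
      intro x _
      have hx : g⁻¹ * x * g ∈ S.comap (MulAut.conj g).toMonoidHom := h ▸ Subgroup.mem_top _
      simpa [mul_assoc] using hx)
    have hyn : g⁻¹ * y * g ∈ Subgroup.normalizer (Y : Set H) :=
      d.maxl _ hle hS' (by simpa [mul_assoc] using hyv)
    have h1 : conjSub Y 1 = Y := d.conjSub_le_of_mem_normalizer (one_mem _)
    have hs := d.mem_of_normalizes (g := 1) (s := QuotientGroup.mk' A (g⁻¹ * y * g))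
      (by
        rw [← map_pow, show g⁻¹ * y * g = g⁻¹ * y * g⁻¹⁻¹ by rw [inv_inv], conj_pow, d.expo y hy,
          mul_one, mul_inv_cancel, map_one])
      (by rw [h1]; exact Subgroup.le_normalizer_map _ ⟨_, hyn, rfl⟩)
    rw [h1] at hs
    obtain ⟨y', hy', he⟩ := hs
    rw [QuotientGroup.mk'_eq_mk'] at he
    obtain ⟨a', ha', he⟩ := he
    have hye : y = g * y' * g⁻¹ * (g * a' * g⁻¹) := by
      calc y = g * (g⁻¹ * y * g) * g⁻¹ := by group
        _ = _ := by rw [← he]; group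
    refine hyA (d.mem_of_centralizes fun b hb => ?_)
    obtain ⟨u', hu', v', hv', rfl⟩ := d.decomp hg hb
    have h1 : u' ∈ fixStab Y y :=
      mem_fixStab_of_commute (d.comm u' hu'.1 y hy)
    have h2 : v' ∈ fixStab Y y := by
      rw [← mem_fixStab_comm, hye]
      refine mul_mem (mem_fixStab_of_commute (d.conjSub_comm ?_ hv'.1))
        (d.comm_mod (hAn.conj_mem a' ha' g) hv'.2)
      exact mem_conjSub.2 (by simpa [mul_assoc] using hy')
    rw [mem_fixStab_comm]
    exact mul_mem h1 h2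

end Data

end CfsgLib.FrakL
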