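import Mathlib
import Cfsg.Agent.FrakL.Setup
import Cfsg.Agent.FrakL.SLTwoQuadratic

/-!
The two arguments showing that an element with a fixed point outside `Y ∩ Z(H)` acts as a
`p`-element: inversion by involutions, and the natural module structure for `SL₂`.
-/

set_option autoImplicit false

namespace CfsgLib.FrakL

open Matrix

variable {H : Type*} [Group H]

theorem sl_coe_mul {F : Type*} [Field F] (a b : SpecialLinearGroup (Fin 2) F) :
    ((a * b : SpecialLinearGroup (Fin 2) F) : Matrix (Fin 2) (Fin 2) F) =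
      (a : Matrix (Fin 2) (Fin 2) F) * (b : Matrix (Fin 2) (Fin 2) F) := rfl

theorem sl_coe_one {F : Type*} [Field F] :
    ((1 : SpecialLinearGroup (Fin 2) F) : Matrix (Fin 2) (Fin 2) F) = 1 := rfl

theorem sl_coe_pow {F : Type*} [Field F] (a : SpecialLinearGroup (Fin 2) F) (n : ℕ) :
    ((a ^ n : SpecialLinearGroup (Fin 2) F) : Matrix (Fin 2) (Fin 2) F) =
      (a : Matrix (Fin 2) (Fin 2) F) ^ n := by
  induction n with
  | zero => simp
  | succ n ih => rw [pow_succ, pow_succ, sl_coe_mul, ih]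

theorem fixStab_conj {Y : Subgroup H} {x v : H} (h : x ∈ fixStab Y v) (z : H) :
    z * x * z⁻¹ ∈ fixStab Y (z * v * z⁻¹) := by
  rw [mem_fixStab] at h ⊢
  convert fixSub_normal.conj_mem _ h z using 1
  group

namespace Data

section Two

variable {Y A : Subgroup H} [hAn : A.Normal] [Finite H] (d : Data 2 Y A)
include d

theorem exists_conjSub_of_sq {s : H ⧸ A} (hs : s ^ 2 = 1) :
    ∃ g, s ∈ (conjSub Y g).map (QuotientGroup.mk' A) := by
  haveI : Fact (Nat.Prime 2) := ⟨Nat.prime_two⟩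
  set P := Y.map (QuotientGroup.mk' A) with hP
  have hPexp : ∀ x ∈ P, x ^ 2 = 1 := by
    rintro _ ⟨x, hx, rfl⟩
    rw [← map_pow, d.expo x hx, map_one]
  have hPp : IsPGroup 2 P := fun x => ⟨1, Subtype.ext (by simpa using hPexp _ x.2)⟩
  have hsp : IsPGroup 2 (Subgroup.zpowers s) := by
    rintro ⟨_, k, rfl⟩
    refine ⟨1, Subtype.ext ?_⟩
    simp only [pow_one, SubgroupClass.coe_pow, OneMemClass.coe_one]
    rw [← zpow_natCast (s ^ k), ← _root_.zpow_mul, mul_comm, _root_.zpow_mul, zpow_natCast, hs, _root_.one_zpow]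
  obtain ⟨T, hT⟩ := hPp.exists_le_sylow
  obtain ⟨S, hS⟩ := hsp.exists_le_sylow
  obtain ⟨k, hk⟩ := MulAction.exists_smul_eq (H ⧸ A) S T
  have hkT : k * s * k⁻¹ ∈ (T : Subgroup (H ⧸ A)) := by
    rw [← hk, Sylow.coe_subgroup_smul, Subgroup.mem_pointwise_smul_iff_inv_smul_mem]
    simpa [MulAut.conj_inv_apply, MulAut.smul_def, mul_assoc] using hS (Subgroup.mem_zpowers s)
  have hks : k * s * k⁻¹ ∈ P := by
    by_contra hnot
    have hsub : insert (k * s * k⁻¹) (P : Set (H ⧸ A)) ⊆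
        {x | x ∈ (T : Subgroup (H ⧸ A)) ∧ x ^ 2 = 1} := by
      rintro x (rfl | hx)
      · exact ⟨hkT, by rw [conj_pow, hs, mul_one, mul_inv_cancel]⟩
      · exact ⟨hT hx, hPexp x hx⟩
    have h1 := (Set.ncard_le_ncard hsub (Set.toFinite _)).trans (d.bound _ T.2)
    rw [Set.ncard_insert_of_notMem (by exact hnot) (Set.toFinite _), ← Nat.card_coe_set_eq] at h1
    change Nat.card P + 1 ≤ Nat.card P at h1
    omega
  obtain ⟨g, hg⟩ := QuotientGroup.mk'_surjective A k⁻¹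
  refine ⟨g, ?_⟩
  rw [d.map_conjSub]
  refine ⟨_, hks, ?_⟩
  simp only [MulEquiv.coe_toMonoidHom, MulAut.conj_apply, hg]
  group

/-- An element inverted modulo `A` by an involution fixes only `Y ∩ Z(H)` modulo it. -/
theorem fixSub_of_inverted {h a : H} (ha : a ∈ A) (hfix : h ∈ fixStab Y a) {r : ℕ}
    (hr : r.Prime) (hr2 : r ≠ 2) (hord : orderOf (QuotientGroup.mk' A h) = r) {i : H ⧸ A}
    (hi : i * i = 1) (hinv : i * QuotientGroup.mk' A h * i⁻¹ = (QuotientGroup.mk' A h)⁻¹) :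
    a ∈ fixSub Y := by
  haveI : Fact (Nat.Prime 2) := ⟨Nat.prime_two⟩
  by_contra hnot
  set x := QuotientGroup.mk' A h with hx
  have hx2 : ∀ k : ℕ, x ^ 2 ^ k ≠ 1 := by
    intro k hk
    have h2 := orderOf_dvd_of_pow_eq_one hk
    rw [hord] at h2
    exact hr2 ((Nat.prime_dvd_prime_iff_eq hr Nat.prime_two).1 (hr.dvd_of_dvd_pow h2))
  obtain ⟨g, y, hy, rfl⟩ := d.exists_conjSub_of_sq (s := i) (by rw [pow_two, hi])
  have hyA : y ∉ A := by
    intro hyA
    have h1 : QuotientGroup.mk' A y = 1 := (QuotientGroup.eq_one_iff y).2 hyA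
    rw [h1, one_mul, inv_one, mul_one] at hinv
    apply hx2 1
    rw [pow_one, pow_two]
    conv_lhs => arg 1; rw [hinv]
    exact inv_mul_cancel x
  have hyy : y * y = 1 := by rw [← pow_two]; exact d.conjSub_expo hy
  have hyinv : y⁻¹ = y := inv_eq_of_mul_eq_one_right hyy
  obtain ⟨a₁, ha₁, he⟩ : ∃ a₁ ∈ A, y⁻¹ * h * y = h⁻¹ * a₁ := by
    refine ⟨h * (y⁻¹ * h * y), ?_, by group⟩
    rw [← QuotientGroup.eq_one_iff, hyinv]
    change QuotientGroup.mk' A (h * (y * h * y)) = 1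
    have hqi : (QuotientGroup.mk' A y)⁻¹ = QuotientGroup.mk' A y := by rw [← map_inv, hyinv]
    rw [hqi] at hinv
    rw [map_mul, map_mul, map_mul, hinv, mul_inv_cancel]
  set a' := y * a * y⁻¹ with ha'def
  have ha' : a' ∈ A := hAn.conj_mem a ha y
  have hfix' : h ∈ fixStab Y a' := by
    have h1 : y⁻¹ * h * y ∈ fixStab Y a := he ▸ mul_mem (inv_mem hfix) (d.comm_mod ha₁ ha)
    have := fixStab_conj h1 y
    simpa [mul_assoc, ← ha'def] using this
  obtain ⟨b, hb, hbn, hbh, hby⟩ : ∃ b ∈ A, b ∉ fixSub Y ∧ h ∈ fixStab Y b ∧ y ∈ fixStab Y b := by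
    by_cases hab : a * a' ∈ fixSub Y
    · refine ⟨a, ha, hnot, hfix, mem_fixStab.2 ?_⟩
      have e : a' * a⁻¹ = (a * a') * (a ^ 2)⁻¹ := by
        have hc := (mem_fixSub.1 hab).2 a⁻¹
        calc a' * a⁻¹ = (a⁻¹ * (a * a')) * a⁻¹ := by group
          _ = _ := by rw [hc, pow_two]; group
      rw [← ha'def, e]
      exact mul_mem hab (inv_mem (d.pow_mod ha))
    · refine ⟨a * a', mul_mem ha ha', hab, mem_fixStab_comm.2
        (mul_mem (mem_fixStab_comm.1 hfix) (mem_fixStab_comm.1 hfix')), mem_fixStab.2 ?_⟩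
      have e : y * (a * a') * y⁻¹ = a' * a := by
        rw [ha'def, hyinv]
        calc y * (a * (y * a * y)) * y = y * a * y * a * (y * y) := by group
          _ = _ := by rw [hyy, mul_one]
      rw [e]
      exact mem_fixStab.1 (d.comm_mod ha' ha) |> fun h1 => by simpa [mul_assoc] using h1
  set y₀ := g⁻¹ * y * g with hy₀
  set b₀ := g⁻¹ * b * g with hb₀
  set h₀ := g⁻¹ * h * g with hh₀
  have hy₀Y : y₀ ∈ Y := mem_conjSub.1 hy
  have hy₀A : y₀ ∉ A := fun h => hyA (by simpa [hy₀, mul_assoc] using hAn.conj_mem _ h g)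
  have hb₀A : b₀ ∈ A := by simpa [hb₀] using hAn.conj_mem b hb g⁻¹
  have hby₀ : y₀ ∈ fixStab Y b₀ := by simpa [hy₀, hb₀] using fixStab_conj hby g⁻¹
  have hbh₀ : h₀ ∈ fixStab Y b₀ := by simpa [hh₀, hb₀] using fixStab_conj hbh g⁻¹
  have hbU := d.mem_inf_of_fixed hy₀Y hy₀A hb₀A hby₀
  have hbn₀ : b₀ ∉ fixSub Y := fun h => hbn (by
    simpa [hb₀, mul_assoc] using fixSub_normal.conj_mem _ h g)
  have hN : h₀ ∈ Subgroup.normalizer (Y : Set H) := by
    by_contra hN
    refine hbn₀ (d.mem_fix_of_mem (g := h₀⁻¹) (fun h => hN (by simpa using inv_mem h)) hbU.1 ?_)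
    rw [mem_conjSub, inv_inv]
    have := Y.mul_mem (mem_fixSub.1 (mem_fixStab.1 hbh₀)).1 hbU.1
    simpa [mul_assoc] using this
  set P := Y.map (QuotientGroup.mk' A)
  set x₀ := QuotientGroup.mk' A h₀ with hx₀
  set t₀ := QuotientGroup.mk' A y₀ with ht₀
  have hxN : x₀ ∈ Subgroup.normalizer (P : Set (H ⧸ A)) :=
    Subgroup.le_normalizer_map _ ⟨h₀, hN, rfl⟩
  have ht : t₀ ∈ P := ⟨y₀, hy₀Y, rfl⟩
  have hinv₀ : t₀ * x₀ * t₀⁻¹ = x₀⁻¹ := by
    have := congrArg (fun z => (QuotientGroup.mk' A g)⁻¹ * z * QuotientGroup.mk' A g) hinv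
    simp only [hx₀, ht₀, hy₀, hh₀, hx, map_mul, map_inv] at this ⊢
    simpa [mul_assoc] using this
  have hmem : x₀⁻¹ * x₀⁻¹ ∈ P := by
    have h1 : t₀ * (x₀ * t₀⁻¹ * x₀⁻¹) ∈ P :=
      mul_mem ht ((Subgroup.mem_normalizer_iff.1 hxN _).1 (inv_mem ht))
    have e : x₀⁻¹ * x₀⁻¹ = t₀ * (x₀ * t₀⁻¹ * x₀⁻¹) := by
      nth_rewrite 1 [← hinv₀]
      group
    rw [e]; exact h1
  obtain ⟨w, hw, hwe⟩ := hmem
  have h4 : (x₀⁻¹ * x₀⁻¹) ^ 2 = 1 := by rw [← hwe, ← map_pow, d.expo w hw, map_one]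
  apply hx2 2
  have h5 : x₀ ^ (2 ^ 2) = 1 := by
    rw [← inv_eq_one, ← inv_pow, show (2 : ℕ) ^ 2 = 2 + 2 from rfl, pow_add,
      ← (Commute.refl x₀⁻¹).mul_pow]
    exact h4
  have hx' : x = QuotientGroup.mk' A g * x₀ * (QuotientGroup.mk' A g)⁻¹ := by
    simp only [hx₀, hh₀, hx, map_mul, map_inv]; group
  rw [hx', conj_pow, h5, mul_one, mul_inv_cancel]

/-- If elements of odd prime order modulo `A` are inverted by involutions, an element fixing a
point outside `Y ∩ Z(H)` is a 2-element modulo `A`. -/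
theorem isTwoElement_of_fixed
    (hreal : ∀ (x : H ⧸ A) (r : ℕ), r.Prime → r ≠ 2 → orderOf x = r →
      ∃ i : H ⧸ A, i * i = 1 ∧ i * x * i⁻¹ = x⁻¹)
    {h a : H} (ha : a ∈ A) (hfix : h ∈ fixStab Y a) (hnot : a ∉ fixSub Y) :
    ∃ k, QuotientGroup.mk' A h ^ 2 ^ k = 1 := by
  set n := orderOf (QuotientGroup.mk' A h) with hn
  by_cases hex : ∃ r, r.Prime ∧ r ≠ 2 ∧ r ∣ n
  · obtain ⟨r, hr, hr2, hrn⟩ := hex
    exfalso
    obtain ⟨i, hi, hinv⟩ := hreal (QuotientGroup.mk' A (h ^ (n / r))) r hr hr2 (by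
      rw [map_pow, hn, orderOf_pow_orderOf_div (orderOf_pos _).ne' hrn])
    exact hnot (d.fixSub_of_inverted ha (pow_mem hfix _) hr hr2 (by
      rw [map_pow, hn, orderOf_pow_orderOf_div (orderOf_pos _).ne' hrn]) hi hinv)
  · push Not at hex
    refine ⟨n.primeFactorsList.length, ?_⟩
    have hn2 : n = 2 ^ n.primeFactorsList.length :=
      Nat.eq_prime_pow_of_unique_prime_dvd (orderOf_pos _).ne' fun {q} hq hqd => by
        by_contra hne
        exact hex q hq hne hqd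
    rw [← hn2, hn, pow_orderOf_eq_one]

end Two

section SLTwo

variable {p : ℕ} [Fact p.Prime] {Y A : Subgroup H} [hAn : A.Normal] [Finite H] (d : Data p Y A)
include d

/-- In the case of `SL₂` an element fixing a point outside `Y ∩ Z(H)` has order dividing `p` modulo
`A`. -/
theorem pow_eq_one_of_fixed {F : Type} [Field F] [CharP F p]
    (e : H ⧸ A ≃* SpecialLinearGroup (Fin 2) F)
    (hupper : ∀ t, ∃ y ∈ Y, e (QuotientGroup.mk' A y) = upperU t)
    (hmem : ∀ y ∈ Y, ∃ t, e (QuotientGroup.mk' A y) = upperU t)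
    {h a : H} (ha : a ∈ A) (hfix : h ∈ fixStab Y a) (hnot : a ∉ fixSub Y) :
    QuotientGroup.mk' A h ^ p = 1 := by
  obtain ⟨g, hg⟩ := QuotientGroup.mk'_surjective A (e.symm weyl)
  have hgN : g ∉ Subgroup.normalizer (Y : Set H) := by
    intro hgN
    obtain ⟨y, hy, hey⟩ := hupper 1
    obtain ⟨t, ht⟩ := hmem _ ((Subgroup.mem_normalizer_iff.1 hgN y).1 hy)
    rw [map_mul, map_mul, map_inv, map_mul, map_mul, map_inv, hg, hey, e.apply_symm_apply,
      mul_inv_eq_iff_eq_mul] at ht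
    have h10 := congrArg (fun M : SpecialLinearGroup (Fin 2) F => M 1 1) ht
    simp [upperU_coe, weyl_coe] at h10
  let M := A.map (QuotientGroup.mk' (fixSub Y))
  letI : CommGroup M :=
    { (inferInstance : Group M) with
      mul_comm := by
        rintro ⟨_, u, hu, rfl⟩ ⟨_, v, hv, rfl⟩
        exact Subtype.ext (Subgroup.mem_centralizer_singleton_iff.1 (d.comm_mod hu hv : u ∈ fixStab Y v)) }
  have hnorm : ∀ (x : H) (m : M),
      QuotientGroup.mk' (fixSub Y) x * (m : H ⧸ fixSub Y) * (QuotientGroup.mk' (fixSub Y) x)⁻¹ ∈ M := by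
    rintro x ⟨_, v, hv, rfl⟩
    exact ⟨x * v * x⁻¹, hAn.conj_mem v hv x, by simp only [map_mul, map_inv]⟩
  let act : H →* AddMonoid.End (Additive M) :=
    { toFun := fun x => AddMonoidHom.mk'
        (fun m => Additive.ofMul (⟨_, hnorm x (Additive.toMul m)⟩ : M)) (fun m m' => by
          apply Additive.toMul.injective
          refine Subtype.ext ?_
          simp only [toMul_add, toMul_ofMul, Subgroup.coe_mul]
          group)
      map_one' := by
        refine AddMonoidHom.ext fun m => Additive.toMul.injective (Subtype.ext ?_)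
        show _ * _ * _ = ((Additive.toMul m : M) : H ⧸ fixSub Y)
        simp
      map_mul' := fun x x' => by
        refine AddMonoidHom.ext fun m => Additive.toMul.injective (Subtype.ext ?_)
        show _ * _ * _ = _ * (_ * _ * _) * _
        simp only [map_mul]
        group }
  have hker : A ≤ act.ker := by
    intro x hx
    refine AddMonoidHom.ext fun m => Additive.toMul.injective (Subtype.ext ?_)
    obtain ⟨v, hv, hve⟩ := (Additive.toMul m).2
    show _ * _ * _ = ((Additive.toMul m : M) : H ⧸ fixSub Y)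
    rw [← hve, mul_inv_eq_iff_eq_mul]
    exact Subgroup.mem_centralizer_singleton_iff.1 (d.comm_mod hx hv : x ∈ fixStab Y v)
  let ρ : SpecialLinearGroup (Fin 2) F →* AddMonoid.End (Additive M) :=
    (QuotientGroup.lift A act hker).comp e.symm.toMonoidHom
  have hρ : ∀ x, ρ (e (QuotientGroup.mk' A x)) = act x := by
    intro x
    show QuotientGroup.lift A act hker (e.symm (e _)) = _
    rw [e.symm_apply_apply]
    rfl
  let mk : A →* M := ((QuotientGroup.mk' (fixSub Y)).comp A.subtype).codRestrict M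
    (fun v => ⟨v, v.2, rfl⟩)
  let mkV : A → Additive M := fun v => Additive.ofMul (mk v)
  have hactV : ∀ (x : H) (v : A), act x (mkV v) = mkV ⟨x * v * x⁻¹, hAn.conj_mem _ v.2 x⟩ := by
    intro x v
    refine Additive.toMul.injective (Subtype.ext ?_)
    show _ * _ * _ = QuotientGroup.mk' (fixSub Y) (x * v * x⁻¹)
    simp only [map_mul, map_inv]
    rfl
  have hmk0 : ∀ v : A, mkV v = 0 ↔ (v : H) ∈ fixSub Y := fun v => by
    show Additive.ofMul (mk v) = 0 ↔ _
    rw [ofMul_eq_zero, Subtype.ext_iff]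
    exact QuotientGroup.eq_one_iff _
  have hmkeq : ∀ v w : A, mkV v = mkV w → (v : H) * (w : H)⁻¹ ∈ fixSub Y := fun v w h => by
    have h1 : mk (v * w⁻¹) = 1 := by
      rw [map_mul, map_inv, mul_inv_eq_one]; exact Additive.ofMul.injective h
    have := (hmk0 (v * w⁻¹)).1 (by show Additive.ofMul (mk (v * w⁻¹)) = 0; rw [h1]; rfl)
    simpa using this
  have hsurj : ∀ m : Additive M, ∃ v : A, mkV v = m := by
    intro m
    obtain ⟨v, hv, hve⟩ := (Additive.toMul m).2
    exact ⟨⟨v, hv⟩, Additive.toMul.injective (Subtype.ext hve)⟩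
  let U : AddSubgroup (Additive M) := (((Y ⊓ A).subgroupOf A).map mk).toAddSubgroup
  have hU : ∀ v : A, (v : H) ∈ Y → mkV v ∈ U := fun v hv => ⟨v, ⟨hv, v.2⟩, rfl⟩
  have hUe : ∀ m ∈ U, ∃ v : A, (v : H) ∈ Y ∧ mkV v = m := by
    rintro m ⟨v, hv, hve⟩
    exact ⟨v, hv.1, congrArg Additive.ofMul hve⟩
  have hquad : Quadratic ρ U := by
    refine ⟨fun t m hm => ?_, fun t m => ?_, fun m => ?_, fun m hm hwm => ?_⟩
    · obtain ⟨y, hy, hey⟩ := hupper t
      obtain ⟨v, hv, rfl⟩ := hUe m hm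
      rw [← hey, hρ, hactV]
      congr 1
      exact Subtype.ext (show y * (v : H) * y⁻¹ = v by rw [d.comm y hy v hv, mul_inv_cancel_right])
    · obtain ⟨y, hy, hey⟩ := hupper t
      obtain ⟨v, rfl⟩ := hsurj m
      rw [← hey, hρ, hactV]
      have hc : y * v * y⁻¹ * (v : H)⁻¹ ∈ Y := by
        have := mul_mem hy ((Subgroup.mem_normalizer_iff.1 (d.normY v.2) _).1 (inv_mem hy))
        simpa [mul_assoc] using this
      convert hU (⟨y * v * y⁻¹, hAn.conj_mem _ v.2 y⟩ * v⁻¹) hc using 1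
      show _ = Additive.ofMul (mk (_ * v⁻¹))
      rw [map_mul, map_inv, ofMul_mul, ofMul_inv, ← sub_eq_add_neg]
    · obtain ⟨v, rfl⟩ := hsurj m
      obtain ⟨u, hu, w, hw, he⟩ := d.decomp hgN v.2
      have hw₀ : g⁻¹ * w * g ∈ A := by simpa using hAn.conj_mem w hw.2 g⁻¹
      refine ⟨_, hU ⟨u, hu.2⟩ hu.1, _, hU ⟨_, hw₀⟩ (mem_conjSub.1 hw.1), ?_⟩
      rw [← e.apply_symm_apply weyl, ← hg, hρ, hactV]
      show Additive.ofMul (mk v) = Additive.ofMul (mk _) + Additive.ofMul (mk _)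
      rw [← ofMul_mul, ← map_mul]
      congr 2
      exact Subtype.ext (by simp [he, mul_assoc])
    · obtain ⟨v, hv, rfl⟩ := hUe m hm
      rw [← e.apply_symm_apply weyl, ← hg, hρ, hactV] at hwm
      obtain ⟨w, hw, hwe⟩ := hUe _ hwm
      have hc := hmkeq _ _ hwe.symm
      have hgv : g * v * g⁻¹ ∈ Y := by
        have := Y.mul_mem (mem_fixSub.1 hc).1 hw
        simpa [mul_assoc] using this
      have hfixc := d.mem_fix_of_mem hgN hgv (mem_conjSub.2 (by simpa [mul_assoc] using hv))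
      rw [hmk0]
      simpa [mul_assoc] using fixSub_normal.conj_mem _ hfixc g⁻¹
  have hva : ρ (e (QuotientGroup.mk' A h)) (mkV ⟨a, ha⟩) = mkV ⟨a, ha⟩ := by
    rw [hρ, hactV]
    show Additive.ofMul (mk _) = Additive.ofMul (mk _)
    refine congrArg Additive.ofMul (Subtype.ext ?_)
    show QuotientGroup.mk' (fixSub Y) (h * a * h⁻¹) = QuotientGroup.mk' (fixSub Y) a
    rw [← mul_inv_eq_one, ← map_inv, ← map_mul]
    exact (QuotientGroup.eq_one_iff _).2 (mem_fixStab.1 hfix)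
  by_contra hne
  apply hnot
  refine (hmk0 ⟨a, ha⟩).1 (eq_zero_of_fixed hquad (fun htr => hne ?_) hva)
  apply e.injective
  rw [map_pow, map_one]
  set k := e (QuotientGroup.mk' A h) with hk
  refine Subtype.ext ?_
  show ((k ^ p : SpecialLinearGroup (Fin 2) F) : Matrix (Fin 2) (Fin 2) F) =
    ((1 : SpecialLinearGroup (Fin 2) F) : Matrix (Fin 2) (Fin 2) F)
  rw [sl_coe_pow, sl_coe_one]
  set N := (k : Matrix (Fin 2) (Fin 2) F) - 1 with hNdef
  have hN : N * N = 0 := by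
    have hdet : k 0 0 * k 1 1 - k 0 1 * k 1 0 = 1 := by
      have := k.2; rwa [det_fin_two] at this
    have h11 : k 1 1 = 2 - k 0 0 := by linear_combination htr
    rw [h11] at hdet
    ext i j
    fin_cases i <;> fin_cases j <;>
      simp [hNdef, Matrix.mul_apply, Fin.sum_univ_two, h11]
    all_goals first
      | linear_combination hdet
      | linear_combination -hdet
      | ring1
  have hpow : ∀ i : ℕ, (k : Matrix (Fin 2) (Fin 2) F) ^ i = 1 + (i : F) • N := by
    intro i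
    induction i with
    | zero => simp
    | succ i ih =>
      rw [pow_succ, ih, show (k : Matrix (Fin 2) (Fin 2) F) = 1 + N by rw [hNdef]; abel, add_mul,
        one_mul, Matrix.smul_mul, mul_add, mul_one, hN, add_zero, Nat.cast_succ, add_smul, one_smul]
      abel
  rw [hpow, CharP.cast_eq_zero, zero_smul, add_zero]

end SLTwo

end Data

/-- A nontrivial `p`-subgroup of `SL₂` in characteristic `p` is conjugate into the upper
unitriangular group. -/
theorem exists_conj_upperU {p : ℕ} [Fact p.Prime] {F : Type} [Field F] [Finite F] [CharP F p]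
    (S : Subgroup (SpecialLinearGroup (Fin 2) F)) (hS : IsPGroup p S) :
    ∃ k : SpecialLinearGroup (Fin 2) F, ∀ s ∈ S, ∃ t, k⁻¹ * s * k = upperU t := by
  letI : MulAction S (Fin 2 → F) :=
    { smul := fun s v => ((s : SpecialLinearGroup (Fin 2) F) : Matrix (Fin 2) (Fin 2) F) *ᵥ v
      one_smul := fun v => Matrix.one_mulVec v
      mul_smul := fun s s' v => (Matrix.mulVec_mulVec v _ _).symm }
  have hdvd : p ∣ Nat.card (Fin 2 → F) := by
    rw [Nat.card_fun, Nat.card_fin]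
    cases nonempty_fintype F
    obtain ⟨n, -, hn⟩ := FiniteField.card F p
    rw [Nat.card_eq_fintype_card, hn, ← pow_mul]
    exact dvd_pow_self p (Nat.mul_ne_zero n.ne_zero two_ne_zero)
  obtain ⟨v, hv, hv0⟩ := hS.exists_fixed_point_of_prime_dvd_card_of_fixed_point _ hdvd
    (a := (0 : Fin 2 → F)) (fun s => Matrix.mulVec_zero _)
  obtain ⟨k, hk⟩ : ∃ k : SpecialLinearGroup (Fin 2) F, k 0 0 = v 0 ∧ k 1 0 = v 1 := by
    by_cases h0 : v 0 = 0
    · have h1 : v 1 ≠ 0 := fun h1 => hv0 (by ext i; fin_cases i <;> simp [h0, h1])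
      refine ⟨⟨!![0, -(v 1)⁻¹; v 1, 0], by simp [det_fin_two, h1]⟩, ?_⟩
      exact ⟨by simp [h0], by simp⟩
    · refine ⟨⟨!![v 0, 0; v 1, (v 0)⁻¹], by simp [det_fin_two, h0]⟩, ?_⟩
      exact ⟨by simp, by simp⟩
  refine ⟨k, fun s hs => ⟨(k⁻¹ * s * k) 0 1, ?_⟩⟩
  have hfix : (s : Matrix (Fin 2) (Fin 2) F) *ᵥ v = v := hv ⟨s, hs⟩
  set m := k⁻¹ * s * k with hm
  have hcol : (k : Matrix (Fin 2) (Fin 2) F) *ᵥ ![1, 0] = v := by
    ext i; fin_cases i <;> simp [Matrix.mulVec, dotProduct, Fin.sum_univ_two, hk]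
  have hinv : ((k⁻¹ : SpecialLinearGroup (Fin 2) F) : Matrix (Fin 2) (Fin 2) F) *ᵥ v = ![1, 0] := by
    rw [← hcol, Matrix.mulVec_mulVec, ← sl_coe_mul, inv_mul_cancel,
      sl_coe_one, Matrix.one_mulVec]
  have he : (m : Matrix (Fin 2) (Fin 2) F) *ᵥ ![1, 0] = ![1, 0] := by
    rw [hm, sl_coe_mul, sl_coe_mul, ← Matrix.mulVec_mulVec, hcol,
      ← Matrix.mulVec_mulVec, hfix, hinv]
  have h00 : m 0 0 = 1 := by
    simpa [Matrix.mulVec, dotProduct, Fin.sum_univ_two] using congrFun he 0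
  have h10 : m 1 0 = 0 := by
    simpa [Matrix.mulVec, dotProduct, Fin.sum_univ_two] using congrFun he 1
  have hdet : m 0 0 * m 1 1 - m 0 1 * m 1 0 = 1 := by
    have := m.2; rwa [det_fin_two] at this
  rw [h00, h10, one_mul, mul_zero, sub_zero] at hdet
  apply sl_ext <;> simp [upperU_coe, h00, h10, hdet]

theorem card_le_of_isPGroup {p : ℕ} [Fact p.Prime] {F : Type} [Field F] [Finite F] [CharP F p]
    (S : Subgroup (SpecialLinearGroup (Fin 2) F)) (hS : IsPGroup p S) :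
    Nat.card S ≤ Nat.card F := by
  obtain ⟨k, hk⟩ := exists_conj_upperU S hS
  choose f hf using hk
  refine Nat.card_le_card_of_injective (fun s : S => f s.1 s.2) fun s s' h => Subtype.ext ?_
  have : k⁻¹ * (s : SpecialLinearGroup (Fin 2) F) * k = k⁻¹ * s' * k := by
    rw [hf _ s.2, hf _ s'.2]; exact congrArg upperU h
  simpa using this

end CfsgLib.FrakL
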