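import Mathlib

/-!
A finite group generated by two conjugate involutions is dihedral with rotations of odd order.
-/

set_option autoImplicit false

namespace CfsgLib.FrakL

variable {Q : Type*} [Group Q]

/-- Rotations and reflections exhaust a group generated by two involutions. -/
theorem dihedral_forms {t t' : Q} (ht : t * t = 1) (ht' : t' * t' = 1)
    (hgen : Subgroup.closure ({t, t'} : Set Q) = ⊤) (g : Q) :
    ∃ i : ℤ, g = (t * t') ^ i ∨ g = t * (t * t') ^ i := by
  set x := t * t' with hx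
  have htinv : t⁻¹ = t := inv_eq_of_mul_eq_one_right ht
  have htinv' : t'⁻¹ = t' := inv_eq_of_mul_eq_one_right ht'
  have hflip : ∀ i : ℤ, t * x ^ i = x ^ (-i) * t := by
    intro i
    have h1 : t * x * t⁻¹ = x⁻¹ := by
      rw [hx, mul_inv_rev, htinv, htinv', ← mul_assoc, ht, one_mul]
    have h2 : t * x ^ i * t⁻¹ = x ^ (-i) := by rw [← conj_zpow, h1, inv_zpow']
    exact mul_inv_eq_iff_eq_mul.1 h2
  let D : Subgroup Q :=
    { carrier := {g | ∃ i : ℤ, g = x ^ i ∨ g = t * x ^ i}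
      one_mem' := ⟨0, Or.inl (zpow_zero x).symm⟩
      mul_mem' := by
        rintro a b ⟨i, rfl | rfl⟩ ⟨j, rfl | rfl⟩
        · exact ⟨i + j, Or.inl (zpow_add x i j).symm⟩
        · refine ⟨-i + j, Or.inr ?_⟩
          rw [zpow_add, ← mul_assoc, ← mul_assoc, hflip, neg_neg]
        · exact ⟨i + j, Or.inr (by rw [zpow_add, mul_assoc])⟩
        · refine ⟨-i + j, Or.inl ?_⟩
          rw [hflip i, mul_assoc, ← mul_assoc t t, ht, one_mul, zpow_add]
      inv_mem' := by
        rintro a ⟨i, rfl | rfl⟩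
        · exact ⟨-i, Or.inl (zpow_neg x i).symm⟩
        · refine ⟨i, Or.inr ?_⟩
          rw [mul_inv_rev, htinv, ← zpow_neg, hflip] }
  have hle : Subgroup.closure ({t, t'} : Set Q) ≤ D := (Subgroup.closure_le _).2 (by
    rintro a (rfl | rfl)
    · exact ⟨0, Or.inr (by rw [zpow_zero, mul_one])⟩
    · exact ⟨1, Or.inr (by rw [zpow_one, hx, ← mul_assoc, ht, one_mul])⟩)
  exact hle (hgen ▸ Subgroup.mem_top g)

theorem dihedral_odd {t t' : Q} (ht : t * t = 1) (ht' : t' * t' = 1)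
    (hgen : Subgroup.closure ({t, t'} : Set Q) = ⊤) (hconj : ∃ s, t' = s * t * s⁻¹) :
    Odd (orderOf (t * t')) := by
  obtain ⟨s, hs⟩ := hconj
  set x := t * t' with hx
  have htinv : t⁻¹ = t := inv_eq_of_mul_eq_one_right ht
  have htinv' : t'⁻¹ = t' := inv_eq_of_mul_eq_one_right ht'
  have hflip : ∀ i : ℤ, t * x ^ i * t = x ^ (-i) := by
    intro i
    have h1 : t * x * t⁻¹ = x⁻¹ := by
      rw [hx, mul_inv_rev, htinv, htinv', ← mul_assoc, ht, one_mul]
    have h2 : t * x ^ i * t⁻¹ = x ^ (-i) := by rw [← conj_zpow, h1, inv_zpow']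
    rwa [htinv] at h2
  obtain ⟨m, hm⟩ : ∃ m : ℤ, x ^ (2 * m + 1) = 1 := by
    obtain ⟨i, hi⟩ := dihedral_forms ht ht' hgen s
    rcases hi with rfl | rfl
    · refine ⟨i, ?_⟩
      have h1 : x = x ^ (-i) * x ^ (-i) := by
        calc x = t * (x ^ i * t * (x ^ i)⁻¹) := by rw [hx, ← hs]
          _ = (t * x ^ i * t) * (x ^ i)⁻¹ := by group
          _ = _ := by rw [hflip, zpow_neg]
      rw [← zpow_add] at h1
      have h2 : x ^ (2 * i + 1) = x ^ (i + i) * x := by rw [← zpow_add_one, two_mul]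
      rw [h2]
      nth_rewrite 2 [h1]
      rw [← zpow_add, show i + i + (-i + -i) = 0 by ring, zpow_zero]
    · refine ⟨i - 1, ?_⟩
      have h1 : x = x ^ i * x ^ i := by
        calc x = t * (t * x ^ i * t * (t * x ^ i)⁻¹) := by rw [hx, ← hs]
          _ = t * (x ^ (-i)) * (x ^ (-i) * t) := by
            rw [hflip, mul_inv_rev, htinv, zpow_neg]; group
          _ = t * (x ^ (-(i + i))) * t := by rw [neg_add, zpow_add]; group
          _ = _ := by rw [hflip, neg_neg, zpow_add]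
      rw [← zpow_add] at h1
      have h2 : x ^ (2 * (i - 1) + 1) = x ^ (i + i) * x⁻¹ := by
        rw [← zpow_neg_one, ← zpow_add]; congr 1; ring
      rw [h2, ← h1, mul_inv_cancel]
  have hd : (orderOf x : ℤ) ∣ 2 * m + 1 := orderOf_dvd_iff_zpow_eq_one.2 hm
  rw [← Nat.not_even_iff_odd, even_iff_two_dvd]
  intro h
  have : (2 : ℤ) ∣ 2 * m + 1 := dvd_trans (by exact_mod_cast h) hd
  omega

end CfsgLib.FrakL
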