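import Mathlib
import Cfsg.Agent.Suzuki.Generate

/-!
Elements of odd prime order of the Suzuki group are inverted by involutions, and a 2-subgroup
has at most `q` elements of order dividing two.
-/

set_option autoImplicit false

open scoped Matrix Pointwise

namespace CfsgLib.FrakL

open CfsgLib.Suzuki Polynomial

variable {F : Type*} [Field F] {θ : F →+* F} [CharP F 2] [Finite F]

theorem suzuki_sq_one_ncard (hT : TitsEndo θ) (S : Subgroup (grp θ)) (hS : IsPGroup 2 S) :
    {s : grp θ | s ∈ S ∧ s ^ 2 = 1}.ncard ≤ Nat.card F := by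
  obtain ⟨P, hP⟩ := hS.exists_le_sylow
  obtain ⟨g, hg⟩ := MulAction.exists_smul_eq (grp θ) P (uSylow hT)
  have hmem : ∀ s ∈ S, s ^ 2 = 1 → ∃ b, g * s * g⁻¹ = uElt hT 0 b := by
    intro s hs h2
    have : g * s * g⁻¹ ∈ uGrp hT := by
      rw [← uSylow_coe hT, ← hg, Sylow.coe_subgroup_smul, Subgroup.mem_pointwise_smul_iff_inv_smul_mem]
      simpa [MulAut.conj_inv_apply, MulAut.smul_def, mul_assoc] using hP hs
    obtain ⟨a, b, hab⟩ := this
    have h : (g * s * g⁻¹) ^ 2 = 1 := by rw [conj_pow, h2, mul_one, mul_inv_cancel]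
    rw [hab, pow_two, uElt_mul, ← uElt_zero hT, uElt_inj] at h
    have ha : θ a * a = 0 := by
      linear_combination h.2 - b * (CharTwo.two_eq_zero : (2 : F) = 0)
    rcases mul_eq_zero.1 ha with ha | ha
    · rw [map_eq_zero] at ha; exact ⟨b, ha ▸ hab⟩
    · exact ⟨b, ha ▸ hab⟩
  have hsub : {s : grp θ | s ∈ S ∧ s ^ 2 = 1} ⊆ Set.range fun b => g⁻¹ * uElt hT 0 b * g := by
    rintro s ⟨hs, h2⟩
    obtain ⟨b, hb⟩ := hmem s hs h2
    exact ⟨b, by simp only [← hb]; group⟩
  refine (Set.ncard_le_ncard hsub (Set.toFinite _)).trans ?_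
  rw [← Nat.card_coe_set_eq]
  exact Nat.card_le_card_of_surjective _ Set.rangeFactorization_surjective

theorem inverted_of_mem_torus (hT : TitsEndo θ) {x g : grp θ} {t : Fˣ}
    (hx : g * x * g⁻¹ = tElt hT t) : ∃ i : grp θ, i * i = 1 ∧ i * x * i⁻¹ = x⁻¹ := by
  refine ⟨g⁻¹ * wElt hT * g, ?_, ?_⟩
  · calc g⁻¹ * wElt hT * g * (g⁻¹ * wElt hT * g) = g⁻¹ * (wElt hT * wElt hT) * g := by group
      _ = 1 := by rw [wElt_mul_self]; group
  · have hx' : x = g⁻¹ * tElt hT t * g := by rw [← hx]; group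
    have hw : (wElt hT)⁻¹ = wElt hT := inv_eq_of_mul_eq_one_right (wElt_mul_self hT)
    calc g⁻¹ * wElt hT * g * x * (g⁻¹ * wElt hT * g)⁻¹
        = g⁻¹ * (wElt hT * tElt hT t * (wElt hT)⁻¹) * g := by rw [hx']; group
      _ = x⁻¹ := by rw [hw, wElt_tElt_wElt, ← tElt_inv, hx']; group

theorem exists_conj_torus (hT : TitsEndo θ) {x : grp θ} {r : ℕ} [Fact r.Prime] (hx : orderOf x = r)
    (h1 : r ∣ Nat.card F - 1) (hr : r ≠ 2) : ∃ (g : grp θ) (t : Fˣ), g * x * g⁻¹ = tElt hT t := by
  let φ : Fˣ →* grp θ := MonoidHom.mk' (tElt hT) fun s t => (tElt_mul hT s t).symm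
  have hφ : Function.Injective φ := fun s t h =>
    tMat_injective (θ := θ) (congrArg Subtype.val h)
  have hcardT : Nat.card φ.range = Nat.card F - 1 := by
    rw [← Nat.card_congr (MonoidHom.ofInjective hφ).toEquiv, Nat.card_units]
  have hr1 : r.Prime := Fact.out
  have hq1 : 1 ≤ Nat.card F := Nat.card_pos
  have hrq : ¬ r ∣ Nat.card F := fun h => hr1.one_lt.ne'
    (Nat.dvd_one.1 (by have := Nat.dvd_sub h h1; rwa [Nat.sub_sub_self hq1] at this))
  have hr2 : ¬ r ∣ Nat.card F ^ 2 + 1 := fun h => by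
    obtain ⟨k, hk⟩ := card_field (F := F)
    have h3 : r ∣ Nat.card F ^ 2 - 1 := by
      rw [show Nat.card F ^ 2 - 1 = (Nat.card F + 1) * (Nat.card F - 1) from by
        simpa using Nat.sq_sub_sq (Nat.card F) 1]
      exact dvd_mul_of_dvd_right h1 _
    have h4 := Nat.dvd_sub h h3
    have : Nat.card F ^ 2 + 1 - (Nat.card F ^ 2 - 1) = 2 := by
      have : 1 ≤ Nat.card F ^ 2 := Nat.one_le_pow _ _ hq1
      omega
    rw [this] at h4
    exact hr ((Nat.prime_dvd_prime_iff_eq hr1 Nat.prime_two).1 h4)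
  obtain ⟨S⟩ : Nonempty (Sylow r φ.range) := inferInstance
  have hidx : ¬ r ∣ ((S : Subgroup φ.range).map φ.range.subtype).index := by
    intro h
    rw [Subgroup.index_map_subtype] at h
    rcases hr1.dvd_mul.1 h with h' | h'
    · exact S.not_dvd_index h'
    · have e := Subgroup.card_mul_index φ.range
      rw [hcardT, card_grp hT, mul_comm (Nat.card F ^ 2 * (Nat.card F ^ 2 + 1))] at e
      have hne : Nat.card F - 1 ≠ 0 := by
        obtain ⟨k, hk1, hk⟩ := card_field (F := F)
        have := Nat.one_lt_two_pow (by omega : k ≠ 0)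
        omega
      rw [Nat.eq_of_mul_eq_mul_left (Nat.pos_of_ne_zero hne) e] at h'
      rcases hr1.dvd_mul.1 h' with h'' | h''
      · exact hrq (hr1.dvd_of_dvd_pow h'')
      · exact hr2 h''
  let P := (S.2.map φ.range.subtype).toSylow hidx
  have hxp : IsPGroup r (Subgroup.zpowers x) := by
    apply IsPGroup.of_card (n := 1)
    rw [Nat.card_zpowers, hx, pow_one]
  obtain ⟨Q, hQ⟩ := hxp.exists_le_sylow
  obtain ⟨g, hg⟩ := MulAction.exists_smul_eq (grp θ) Q P
  have hmem : g * x * g⁻¹ ∈ (P : Subgroup (grp θ)) := by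
    rw [← hg, Sylow.coe_subgroup_smul, Subgroup.mem_pointwise_smul_iff_inv_smul_mem]
    simpa [MulAut.conj_inv_apply, MulAut.smul_def, mul_assoc] using
      hQ (Subgroup.mem_zpowers x)
  obtain ⟨⟨_, t, rfl⟩, -, hy⟩ := hmem
  exact ⟨g, t, hy.symm⟩

theorem pow_four_mul_sq_add_one {q r : ℕ} (hr : r.Prime) (hr2 : r ≠ 2) (h : r ∣ q ^ 2 + 1) :
    ∀ d, 0 < d → r ∣ q ^ d - 1 → 4 ≤ d := by
  haveI := Fact.mk hr
  intro d hd h1
  have hq2 : (q : ZMod r) ^ 2 = -1 := by
    have := (ZMod.natCast_eq_zero_iff _ _).2 h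
    push_cast at this
    exact eq_neg_of_add_eq_zero_left this
  have hq0 : q ≠ 0 := by
    rintro rfl
    simp at h
    exact hr.ne_one h
  have hd' : (q : ZMod r) ^ d = 1 := by
    have := (ZMod.natCast_eq_zero_iff _ _).2 h1
    rw [Nat.cast_sub (Nat.one_le_pow _ _ (Nat.pos_of_ne_zero hq0)), sub_eq_zero] at this
    simpa using this
  have hm1 : (-1 : ZMod r) ≠ 1 := by
    intro e
    have : ((2 : ℕ) : ZMod r) = 0 := by push_cast; linear_combination -e
    exact hr2 ((Nat.prime_dvd_prime_iff_eq hr Nat.prime_two).1 ((ZMod.natCast_eq_zero_iff _ _).1 this))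
  by_contra hlt
  have h14 : (q : ZMod r) ^ 4 = 1 := by rw [show 4 = 2 * 2 from rfl, pow_mul, hq2]; ring
  interval_cases d
  · rw [pow_one] at hd'; rw [hd', one_pow] at hq2; exact hm1 hq2.symm
  · exact hm1 (hq2.symm.trans hd')
  · have : (q : ZMod r) = 1 := by
      rw [show 4 = 3 + 1 from rfl, pow_succ, hd', one_mul] at h14; exact h14
    rw [this, one_pow] at hq2; exact hm1 hq2.symm

/-- An element whose order is a prime dividing `q ^ 2 + 1` generates, inside the matrices, a field
of degree four: its centraliser is commutative of odd order, contains all commuting elements of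
its order as powers, and a conjugate power has exponent a power of `q`. -/
theorem exists_field_model (hT : TitsEndo θ) {x : grp θ} {r : ℕ} [Fact r.Prime]
    (hx : orderOf x = r) (hr : r ≠ 2) (h2 : r ∣ Nat.card F ^ 2 + 1) :
    (∀ y z : grp θ, Commute y x → Commute z x → Commute y z) ∧
      Odd (Nat.card (Subgroup.centralizer ({x} : Set (grp θ)))) ∧
      (∀ y : grp θ, Commute y x → y ^ r = 1 → y ∈ Subgroup.zpowers x) ∧
      (∀ (g : grp θ) (j : ℕ), g * x * g⁻¹ = x ^ j → (j : ZMod r) ^ 4 = 1) := by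
  classical
  have hr1 : r.Prime := Fact.out
  cases nonempty_fintype F
  set q := Nat.card F with hq
  have hord := pow_four_mul_sq_add_one hr1 hr h2
  let M : Matrix (Fin 4) (Fin 4) F := ((x : Matrix.SpecialLinearGroup (Fin 4) F) : Matrix (Fin 4) (Fin 4) F)
  let ι : grp θ →* Matrix (Fin 4) (Fin 4) F :=
    (Units.coeHom _).comp (Matrix.SpecialLinearGroup.toGL.comp (grp θ).subtype)
  have hι : Function.Injective ι := fun a b h => Subtype.ext (Subtype.ext h)
  have hM : ι x = M := rfl
  have hMr : M ^ r = 1 := by rw [← hM, ← map_pow, ← hx, pow_orderOf_eq_one, map_one]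
  have hM1 : M ≠ 1 := fun h => by
    have : x = 1 := hι (by rw [hM, h, map_one])
    rw [this, orderOf_one] at hx
    exact hr1.ne_one hx.symm
  have hint : IsIntegral F M := IsIntegral.of_finite F M
  set μ := minpoly F M with hμ
  have hμ0 : μ ≠ 0 := minpoly.ne_zero hint
  have hμdvd : μ ∣ (X ^ r - 1 : F[X]) := minpoly.dvd F M (by simp [hMr])
  have hrF : ((r : ℕ) : F) ≠ 0 := by
    intro h
    rw [CharP.cast_eq_zero_iff F 2] at h
    exact hr ((Nat.prime_dvd_prime_iff_eq Nat.prime_two hr1).1 h).symm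
  have hsep : (X ^ r - 1 : F[X]).Separable := by
    simpa using separable_X_pow_sub_C (1 : F) hrF one_ne_zero
  have hdeg : μ.natDegree ≤ 4 := by
    have h1 := natDegree_le_of_dvd (Matrix.minpoly_dvd_charpoly M) (Matrix.charpoly_monic M).ne_zero
    rw [Matrix.charpoly_natDegree_eq_dim] at h1
    simpa using h1
  have hbig : ∀ f : F[X], Irreducible f → f ∣ μ → ¬ (X - C 1) ∣ f → 4 ≤ f.natDegree := by
    intro f hf hfd hne
    haveI := Fact.mk hf
    let α := AdjoinRoot.root f
    have hα : α ^ r = 1 := by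
      have : aeval α (X ^ r - 1 : F[X]) = 0 :=
        eq_zero_of_zero_dvd (by
          have h := map_dvd (aeval α) (hfd.trans hμdvd)
          rwa [show aeval α f = 0 by rw [AdjoinRoot.aeval_eq, AdjoinRoot.mk_self]] at h)
      simpa [sub_eq_zero] using this
    have hα1 : α ≠ 1 := by
      intro h
      apply hne
      have h1 : aeval α (X - C 1 : F[X]) = 0 := by simp [h]
      rw [AdjoinRoot.aeval_eq, AdjoinRoot.mk_eq_zero] at h1
      exact (hf.associated_of_dvd (irreducible_X_sub_C 1) h1).symm.dvd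
    haveI : Module.Finite F (AdjoinRoot f) := (AdjoinRoot.powerBasis hf.ne_zero).finite
    haveI : Finite (AdjoinRoot f) := Module.finite_of_finite F
    have hcard : Nat.card (AdjoinRoot f) = q ^ f.natDegree := by
      rw [Module.natCard_eq_pow_finrank (K := F), (AdjoinRoot.powerBasis hf.ne_zero).finrank,
        AdjoinRoot.powerBasis_dim]
    have hα0 : α ≠ 0 := fun h => by simp [h, zero_pow hr1.ne_zero] at hα
    have hd : orderOf α = r := orderOf_eq_prime hα hα1
    have := orderOf_dvd_natCard (Units.mk0 α hα0)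
    rw [← orderOf_units, Units.val_mk0, hd, Nat.card_units, hcard] at this
    exact hord _ hf.natDegree_pos this
  have hirr : Irreducible μ ∧ μ.natDegree = 4 := by
    by_cases h1 : (X - C 1) ∣ μ
    · exfalso
      obtain ⟨ν, hν⟩ := h1
      by_cases hu : IsUnit ν
      · apply hM1
        have := minpoly.aeval F M
        rw [← hμ, hν, map_mul] at this
        obtain ⟨u, rfl⟩ := hu
        have h0 : aeval M (X - C 1 : F[X]) = 0 := by
          have := congrArg (fun A => A * aeval M ((u⁻¹ : F[X]ˣ) : F[X])) this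
          simpa [mul_assoc, ← map_mul] using this
        simpa [sub_eq_zero] using h0
      · obtain ⟨f, hf, hfd⟩ := WfDvdMonoid.exists_irreducible_factor hu
          (fun h => hμ0 (by rw [hν, h, mul_zero]))
        have hfX : ¬ (X - C 1) ∣ f := fun h => by
          have hsq : (X - C 1) * (X - C 1) ∣ (X ^ r - 1 : F[X]) :=
            (mul_dvd_mul_left _ (h.trans hfd)).trans (hν ▸ hμdvd)
          exact (irreducible_X_sub_C (1 : F)).not_isUnit (hsep.squarefree _ hsq)
        have h4 := hbig f hf (hν ▸ hfd.mul_left _) hfX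
        have h5 := natDegree_le_of_dvd hfd (fun h => hμ0 (by rw [hν, h, mul_zero]))
        have h6 : μ.natDegree = 1 + ν.natDegree := by
          rw [hν, natDegree_mul (X_sub_C_ne_zero 1) (fun h => hμ0 (by rw [hν, h, mul_zero])),
            natDegree_X_sub_C]
        omega
    · obtain ⟨f, hf, hfd⟩ := WfDvdMonoid.exists_irreducible_factor (minpoly.not_isUnit F M) hμ0
      have h4 := hbig f hf hfd (fun h => h1 (h.trans hfd))
      have h5 := natDegree_le_of_dvd hfd hμ0
      exact ⟨(associated_of_dvd_of_natDegree_le hfd hμ0 (hdeg.trans h4)).irreducible hf,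
        le_antisymm hdeg (h4.trans h5)⟩
  haveI := Fact.mk hirr.1
  let φ : AdjoinRoot μ →ₐ[F] Matrix (Fin 4) (Fin 4) F :=
    Ideal.Quotient.liftₐ (Ideal.span {μ}) (aeval M) (fun a ha => by
      obtain ⟨b, rfl⟩ := Ideal.mem_span_singleton.1 ha
      rw [map_mul, hμ, minpoly.aeval, zero_mul])
  have hφM : φ (AdjoinRoot.root μ) = M := aeval_X M
  have hφ : Function.Injective φ := φ.toRingHom.injective
  let v0 : Fin 4 → F := Pi.single 0 1
  let ev : AdjoinRoot μ →ₗ[F] (Fin 4 → F) :=
      { toFun := fun k => φ k *ᵥ v0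
        map_add' := fun a b => by rw [map_add, Matrix.add_mulVec]
        map_smul' := fun a b => by rw [map_smul, Matrix.smul_mulVec, RingHom.id_apply] }
  have hev : Function.Injective ev := by
    rw [injective_iff_map_eq_zero]
    intro k hk
    by_contra hk0
    have h1 : φ k⁻¹ *ᵥ (φ k *ᵥ v0) = v0 := by
      rw [Matrix.mulVec_mulVec, ← map_mul, inv_mul_cancel₀ hk0, map_one, Matrix.one_mulVec]
    rw [show φ k *ᵥ v0 = 0 from hk, Matrix.mulVec_zero] at h1
    simpa [v0] using congrFun h1 0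
  have hevs : Function.Surjective ev := by
    haveI : Module.Finite F (AdjoinRoot μ) := (AdjoinRoot.powerBasis hμ0).finite
    refine (LinearMap.injective_iff_surjective_of_finrank_eq_finrank ?_).1 hev
    rw [(AdjoinRoot.powerBasis hμ0).finrank, AdjoinRoot.powerBasis_dim, hirr.2, Module.finrank_fin_fun]
  have hcomm : ∀ N : Matrix (Fin 4) (Fin 4) F, Commute N M → ∃ k, N = φ k := by
    intro N hN
    have hall : ∀ k, Commute N (φ k) := by
      intro k
      induction k using AdjoinRoot.induction_on with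
      | ih p =>
        rw [← AdjoinRoot.aeval_eq, ← aeval_algHom_apply, hφM, Polynomial.aeval_def]
        induction p using Polynomial.induction_on' with
        | add p s hp hs => rw [eval₂_add]; exact hp.add_right hs
        | monomial i c =>
          rw [eval₂_monomial]
          exact (Algebra.commute_algebraMap_right _ _).mul_right (hN.pow_right i)
    obtain ⟨k, hk⟩ := hevs (N *ᵥ v0)
    refine ⟨k, Matrix.toLin'.injective (LinearMap.ext fun v => ?_)⟩
    obtain ⟨l, rfl⟩ := hevs v
    show N *ᵥ (φ l *ᵥ v0) = φ k *ᵥ (φ l *ᵥ v0)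
    rw [Matrix.mulVec_mulVec, (hall l).eq, ← Matrix.mulVec_mulVec, ← (show φ k *ᵥ v0 = N *ᵥ v0 from hk),
      Matrix.mulVec_mulVec, Matrix.mulVec_mulVec, ← map_mul, ← map_mul, mul_comm]
  have hlift : ∀ y : grp θ, Commute y x → ∃ k, ι y = φ k := fun y hy => hcomm _ (hM ▸ hy.map ι)
  haveI : Module.Finite F (AdjoinRoot μ) := (AdjoinRoot.powerBasis hμ0).finite
  haveI : Finite (AdjoinRoot μ) := Module.finite_of_finite F
  have hK : Nat.card (AdjoinRoot μ) = q ^ 4 := by
    rw [Module.natCard_eq_pow_finrank (K := F), (AdjoinRoot.powerBasis hμ0).finrank,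
      AdjoinRoot.powerBasis_dim, hirr.2]
  set α := AdjoinRoot.root μ with hα
  have hαr : α ^ r = 1 := hφ (by rw [map_pow, hφM, hMr, map_one])
  have hα1 : α ≠ 1 := fun h => hM1 (by rw [← hφM, h, map_one])
  have hαord : orderOf α = r := orderOf_eq_prime hαr hα1
  refine ⟨fun y z hy hz => ?_, ?_, fun y hy hyr => ?_, fun g j hg => ?_⟩
  · obtain ⟨a, ha⟩ := hlift y hy
    obtain ⟨b, hb⟩ := hlift z hz
    exact hι (by rw [map_mul, map_mul, ha, hb, ← map_mul, ← map_mul, mul_comm])
  · let C := Subgroup.centralizer ({x} : Set (grp θ))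
    have hC : ∀ y : C, Commute (y : grp θ) x := fun y => (Subgroup.mem_centralizer_singleton_iff.1 y.2)
    choose f hf using fun y : C => hlift y (hC y)
    have hf0 : ∀ y, f y ≠ 0 := fun y h => by
      have h' := hf y
      rw [h, map_zero] at h'
      exact (Matrix.GeneralLinearGroup.det_ne_zero
        (Matrix.SpecialLinearGroup.toGL ((y : grp θ) : Matrix.SpecialLinearGroup (Fin 4) F)))
        (by rw [show ((Matrix.SpecialLinearGroup.toGL ((y : grp θ) : Matrix.SpecialLinearGroup (Fin 4) F)) :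
          Matrix (Fin 4) (Fin 4) F) = 0 from h', Matrix.det_zero])
    let e : C →* (AdjoinRoot μ)ˣ := MonoidHom.mk' (fun y => Units.mk0 (f y) (hf0 y)) fun y z =>
      Units.ext (hφ (by simp [← hf, map_mul]))
    have he : Function.Injective e := fun y z h => Subtype.ext (hι (by
      rw [hf, hf, show f y = f z from congrArg Units.val h]))
    refine Odd.of_dvd_nat ?_ (Subgroup.card_dvd_of_injective e he)
    rw [Nat.card_units, hK]
    obtain ⟨k, hk1, hk⟩ := card_field (F := F)
    have hev : Even (q ^ 4) := (hq ▸ hk ▸ (Nat.even_pow' (by omega)).2 even_two : Even q).pow_of_ne_zero (by norm_num)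
    exact Nat.Even.sub_odd (Nat.one_le_pow _ _ Nat.card_pos) hev odd_one
  · obtain ⟨k, hk⟩ := hlift y hy
    have hkr : k ^ r = 1 := hφ (by rw [map_pow, ← hk, ← map_pow, hyr, map_one, map_one])
    have hprim : IsPrimitiveRoot α r := hαord ▸ IsPrimitiveRoot.orderOf α
    obtain ⟨i, -, hi⟩ := hprim.eq_pow_of_pow_eq_one hkr
    refine Subgroup.mem_zpowers_iff.2 ⟨(i : ℤ), hι ?_⟩
    rw [zpow_natCast, map_pow, hM, hk, ← hi, map_pow, hφM]
  · have hpow : ι g * M * ι g⁻¹ = M ^ j := by rw [← hM, ← map_mul, ← map_mul, hg, map_pow]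
    have hroot : aeval (α ^ j) μ = 0 := by
      apply hφ
      rw [← aeval_algHom_apply, map_pow, hφM, map_zero, ← hpow]
      let c : Matrix (Fin 4) (Fin 4) F →ₐ[F] Matrix (Fin 4) (Fin 4) F :=
        { toFun := fun A => ι g * A * ι g⁻¹
          map_one' := by rw [mul_one, ← map_mul, mul_inv_cancel, map_one]
          map_mul' := fun A B => by
            have : ι g⁻¹ * ι g = 1 := by rw [← map_mul, inv_mul_cancel, map_one]
            simp [mul_assoc, ← mul_assoc (ι g⁻¹) (ι g), this]
          map_zero' := by simp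
          map_add' := fun A B => by rw [mul_add, add_mul]
          commutes' := fun a => by
            rw [← Algebra.commutes, mul_assoc, ← map_mul ι, mul_inv_cancel, map_one, mul_one] }
      show aeval (c M) μ = 0
      rw [aeval_algHom_apply, minpoly.aeval, map_zero]
    have hfrob : ∀ i : ℕ, aeval (α ^ q ^ i) μ = 0 := by
      intro i
      induction i with
      | zero => rw [pow_zero, pow_one, hα, AdjoinRoot.aeval_eq, AdjoinRoot.mk_self]
      | succ i ih =>
        rw [pow_succ, pow_mul, hq, Nat.card_eq_fintype_card, ← expand_aeval, FiniteField.expand_card,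
          map_pow, ← Nat.card_eq_fintype_card, ← hq, ih, zero_pow Nat.card_pos.ne']
    set R := (μ.map (algebraMap F (AdjoinRoot μ))).roots.toFinset with hR
    have hRmem : ∀ b, b ∈ R ↔ aeval b μ = 0 := fun b => by
      rw [hR, Multiset.mem_toFinset, mem_roots ((Polynomial.map_ne_zero_iff (algebraMap F _).injective).2 hμ0),
        IsRoot.def, eval_map_algebraMap]
    have hinj : Function.Injective fun i : Fin 4 => α ^ q ^ (i : ℕ) := by
      intro a b hab
      have hqu : IsUnit (q : ZMod r) := by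
        rw [ZMod.isUnit_iff_coprime, Nat.coprime_comm, hr1.coprime_iff_not_dvd]
        intro h
        exact hr1.not_dvd_one ((Nat.dvd_add_right (dvd_pow h two_ne_zero)).1 h2)
      have key : ∀ a b : Fin 4, (a : ℕ) < b → α ^ q ^ (a : ℕ) ≠ α ^ q ^ (b : ℕ) := by
        intro a b hlt hab
        rw [(isOfFinOrder_iff_pow_eq_one.2 ⟨r, hr1.pos, hαr⟩).pow_inj_mod, hαord] at hab
        have : ((q ^ (a : ℕ) : ℕ) : ZMod r) = ((q ^ (b : ℕ) : ℕ) : ZMod r) :=
          (ZMod.natCast_eq_natCast_iff' _ _ _).2 hab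
        push_cast at this
        rw [← Nat.add_sub_of_le hlt.le, pow_add] at this
        have h1 : (q : ZMod r) ^ ((b : ℕ) - a) = 1 :=
          ((hqu.pow _).mul_left_cancel (by rw [mul_one]; exact this)).symm
        have hle : 1 ≤ q ^ ((b : ℕ) - a) := Nat.one_le_pow _ _ Nat.card_pos
        have h4 := hord ((b : ℕ) - a) (by omega) (by
          rw [← ZMod.natCast_eq_zero_iff, Nat.cast_sub hle, Nat.cast_pow, h1, Nat.cast_one, sub_self])
        omega
      rcases lt_trichotomy (a : ℕ) b with h | h | h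
      · exact absurd hab (key a b h)
      · exact Fin.ext h
      · exact absurd hab.symm (key b a h)
    have hcardR : R.card ≤ 4 := by
      refine (Multiset.toFinset_card_le _).trans ((card_roots' _).trans ?_)
      rw [natDegree_map, hirr.2]
    have hsurj : Finset.image (fun i : Fin 4 => α ^ q ^ (i : ℕ)) Finset.univ = R :=
      Finset.eq_of_subset_of_card_le (fun b hb => by
        obtain ⟨i, -, rfl⟩ := Finset.mem_image.1 hb
        exact (hRmem _).2 (hfrob i))
        (by rw [Finset.card_image_of_injective _ hinj, Finset.card_univ, Fintype.card_fin]; exact hcardR)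
    obtain ⟨i, -, hi⟩ := Finset.mem_image.1 (hsurj.symm ▸ (hRmem _).2 hroot : α ^ j ∈ _)
    rw [(isOfFinOrder_iff_pow_eq_one.2 ⟨r, hr1.pos, hαr⟩).pow_inj_mod, hαord] at hi
    have hji : ((q ^ (i : ℕ) : ℕ) : ZMod r) = (j : ZMod r) := (ZMod.natCast_eq_natCast_iff' _ _ _).2 hi
    push_cast at hji
    have h14 : (q : ZMod r) ^ 4 = 1 := by
      have hq2 := (ZMod.natCast_eq_zero_iff (q ^ 2 + 1) r).2 h2
      push_cast at hq2
      linear_combination ((q : ZMod r) ^ 2 - 1) * hq2
    rw [← hji, ← pow_mul, mul_comm, pow_mul, h14, one_pow]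

theorem conj_iterate {G : Type*} [Group G] {g x : G} {j : ℕ} (h : g * x * g⁻¹ = x ^ j) :
    (g * g) * x * (g * g)⁻¹ = x ^ (j * j) := by
  calc (g * g) * x * (g * g)⁻¹ = g * (g * x * g⁻¹) * g⁻¹ := by group
    _ = (g * x * g⁻¹) ^ j := by rw [conj_pow]; nth_rewrite 1 [h]; rfl
    _ = _ := by rw [h, ← pow_mul]

/-- Every element of odd prime order is inverted by an involution. -/
theorem suzuki_exists_inverting (hT : TitsEndo θ) {x : grp θ} {r : ℕ} [Fact r.Prime]
    (hx : orderOf x = r) (hr : r ≠ 2) : ∃ i : grp θ, i * i = 1 ∧ i * x * i⁻¹ = x⁻¹ := by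
  classical
  have hr1 : r.Prime := Fact.out
  have hdvd : r ∣ Nat.card F ^ 2 * (Nat.card F ^ 2 + 1) * (Nat.card F - 1) :=
    card_grp hT ▸ hx ▸ orderOf_dvd_natCard x
  rcases hr1.dvd_mul.1 hdvd with h | h
  rcases hr1.dvd_mul.1 h with h | h
  · exfalso
    obtain ⟨k, -, hk⟩ := card_field (F := F)
    rw [hk, ← pow_mul] at h
    exact hr ((Nat.prime_dvd_prime_iff_eq hr1 Nat.prime_two).1 (hr1.dvd_of_dvd_pow h))
  swap
  · obtain ⟨g, t, hg⟩ := exists_conj_torus hT hx h hr
    exact inverted_of_mem_torus hT hg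
  obtain ⟨hab, hodd, hroots, hconj⟩ := exists_field_model hT hx hr h
  have hxp : IsPGroup r (Subgroup.zpowers x) :=
    IsPGroup.of_card (n := 1) (by rw [Nat.card_zpowers, hx, pow_one])
  obtain ⟨R, hR⟩ := hxp.exists_le_sylow
  have hxR : x ∈ (R : Subgroup (grp θ)) := hR (Subgroup.mem_zpowers x)
  have hRx : ∀ a ∈ (R : Subgroup (grp θ)), Commute a x := by
    intro a ha
    haveI : Nontrivial (R : Subgroup (grp θ)) :=
      ⟨⟨x, hxR⟩, 1, fun he => hr1.ne_one (by
        rw [← hx, show x = 1 from congrArg Subtype.val he, orderOf_one])⟩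
    haveI := R.2.center_nontrivial
    obtain ⟨n, hn, hcard⟩ := (IsPGroup.nontrivial_iff_card
      (R.2.to_subgroup (Subgroup.center (R : Subgroup (grp θ))))).1 inferInstance
    have hdv : r ∣ Nat.card (Subgroup.center (R : Subgroup (grp θ))) :=
      hcard ▸ dvd_pow_self r hn.ne'
    obtain ⟨z, hz⟩ := exists_prime_orderOf_dvd_card' r hdv
    set z' : grp θ := ((z : (R : Subgroup (grp θ))) : grp θ) with hz'
    have hzo : orderOf z' = r := by rw [hz', Subgroup.orderOf_coe, Subgroup.orderOf_coe, hz]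
    have hzc : ∀ b ∈ (R : Subgroup (grp θ)), Commute b z' := fun b hb =>
      congrArg Subtype.val (Subgroup.mem_center_iff.1 z.2 ⟨b, hb⟩)
    exact (exists_field_model hT hzo hr h).1 a x (hzc a ha) (hzc x hxR)
  haveI := isSimpleGroup hT
  obtain ⟨y, hy, hyc⟩ : ∃ y ∈ Subgroup.normalizer ((R : Subgroup (grp θ)) : Set (grp θ)),
      y ∉ Subgroup.centralizer ((R : Subgroup (grp θ)) : Set (grp θ)) := by
    by_contra hne
    push Not at hne
    have hle : Subgroup.normalizer ((R : Subgroup (grp θ)) : Set (grp θ)) ≤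
      Subgroup.centralizer ((R : Subgroup (grp θ)) : Set (grp θ)) := hne
    have hc := MonoidHom.ker_transferSylow_isComplement' R hle
    rcases (inferInstance : ((MonoidHom.transferSylow R hle).ker).Normal).eq_bot_or_eq_top with h0 | h0
    · rw [h0, Subgroup.isComplement'_bot_left] at hc
      obtain ⟨n, hn⟩ := R.2.exists_card_eq
      rw [hc, Subgroup.card_top] at hn
      have h2 : 2 ∣ Nat.card (grp θ) := by
        rw [card_grp hT]
        obtain ⟨k, hk1, hk⟩ := card_field (F := F)
        exact dvd_mul_of_dvd_left (dvd_mul_of_dvd_left (hk ▸ dvd_pow (dvd_pow_self 2 (by omega)) two_ne_zero) _) _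
      exact hr ((Nat.prime_dvd_prime_iff_eq Nat.prime_two hr1).1 (Nat.prime_two.dvd_of_dvd_pow (hn ▸ h2))).symm
    · rw [h0, Subgroup.isComplement'_top_left] at hc
      rw [hc, Subgroup.mem_bot] at hxR
      rw [hxR, orderOf_one] at hx
      exact hr1.ne_one hx.symm
  have hxy : y * x * y⁻¹ ∈ (R : Subgroup (grp θ)) := (Subgroup.mem_normalizer_iff.1 hy x).1 hxR
  have hpow : (y * x * y⁻¹) ^ r = 1 := by
    rw [conj_pow, ← hx, pow_orderOf_eq_one, mul_one, mul_inv_cancel]
  obtain ⟨j, hj⟩ : ∃ j : ℕ, y * x * y⁻¹ = x ^ j := by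
    obtain ⟨j, hj⟩ := (mem_powers_iff_mem_zpowers.2 (hroots _ (hRx _ hxy) hpow))
    exact ⟨j, hj.symm⟩
  have hxpow : ∀ a b : ℕ, (a : ZMod r) = b → x ^ a = x ^ b := fun a b hab' =>
    pow_eq_pow_iff_modEq.2 (hx.symm ▸ (ZMod.natCast_eq_natCast_iff _ _ _).1 hab')
  have hj1 : (j : ZMod r) ≠ 1 := by
    intro hj1
    apply hyc
    have hyx : Commute y x := by
      have e : x ^ j = x := (hxpow j 1 (by simpa using hj1)).trans (pow_one x)
      rw [e] at hj
      exact mul_inv_eq_iff_eq_mul.1 hj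
    exact Subgroup.mem_centralizer_iff.2 fun a ha => (hab a y (hRx a ha) hyx).eq
  have h4 := hconj y j hj
  have hneg : ∀ k : ℕ, (k : ZMod r) = -1 → x ^ k = x⁻¹ := fun k hk => by
    refine eq_inv_of_mul_eq_one_left ?_
    rw [← pow_succ, hxpow (k + 1) 0 (by push_cast; rw [hk, neg_add_cancel]), pow_zero]
  obtain ⟨z, hz⟩ : ∃ z : grp θ, z * x * z⁻¹ = x⁻¹ := by
    have : ((j : ZMod r) ^ 2 - 1) * ((j : ZMod r) ^ 2 + 1) = 0 := by linear_combination h4
    rcases mul_eq_zero.1 this with h2 | h2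
    · rcases sq_eq_one_iff.1 (sub_eq_zero.1 h2) with h3 | h3
      · exact absurd h3 hj1
      · exact ⟨y, hj.trans (hneg j h3)⟩
    · exact ⟨y * y, (conj_iterate hj).trans (hneg _ (by push_cast; linear_combination h2))⟩
  set k := Nat.card (Subgroup.centralizer ({x} : Set (grp θ))) with hk
  refine ⟨z ^ k, ?_, ?_⟩
  · have hz2 : z * z ∈ Subgroup.centralizer ({x} : Set (grp θ)) := by
      rw [Subgroup.mem_centralizer_singleton_iff]
      refine mul_inv_eq_iff_eq_mul.1 ?_
      have hinv : z * x⁻¹ * z⁻¹ = x := by rw [← conj_inv, hz, inv_inv]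
      calc z * z * x * (z * z)⁻¹ = z * (z * x * z⁻¹) * z⁻¹ := by group
        _ = x := by rw [hz, hinv]
    rw [← (Commute.refl z).mul_pow]
    exact congrArg Subtype.val
      (pow_card_eq_one' (x := (⟨z * z, hz2⟩ : Subgroup.centralizer ({x} : Set (grp θ)))))
  · obtain ⟨l, hl⟩ := hodd
    have hstep : ∀ l : ℕ, z ^ (2 * l + 1) * x * (z ^ (2 * l + 1))⁻¹ = x⁻¹ := by
      intro l
      induction l with
      | zero => simpa using hz
      | succ l ih =>
        calc z ^ (2 * (l + 1) + 1) * x * (z ^ (2 * (l + 1) + 1))⁻¹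
            = z * (z * (z ^ (2 * l + 1) * x * (z ^ (2 * l + 1))⁻¹) * z⁻¹) * z⁻¹ := by
              rw [show 2 * (l + 1) + 1 = 2 * l + 1 + 1 + 1 from by ring, pow_succ', pow_succ' z (2 * l + 1)]
              group
          _ = z * (z * x⁻¹ * z⁻¹) * z⁻¹ := by rw [ih]
          _ = x⁻¹ := by rw [← conj_inv, hz, inv_inv, hz]
    rw [hk] at *
    rw [hl]
    exact hstep l

end CfsgLib.FrakL
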