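import Mathlib
import Cfsg.Prelude.Def_LocalStructure
import Cfsg.Agent.Eq.Def_LocalStructure
import Cfsg.Agent.LocalCharP.PReduced
import Cfsg.Agent.CharP.PCore
import Cfsg.Agent.Suzuki.LieModel
import Cfsg.Agent.FrakL.Cases
import Cfsg.Agent.FrakL.SuzukiReal
import Cfsg.Agent.FrakL.DihedralQuot

/-!
For a member `L` of `𝔏_G(Y_M)` an element fixing a point of `O_p(L)` outside `C` modulo `C` is a
`p`-element.
-/

set_option autoImplicit false

namespace CfsgLib.FrakL

variable {p : ℕ} [Fact p.Prime] {H : Type*} [Group H] [Finite H]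

/-- `Data` without the bound on `p`-subgroups of the quotient. -/
structure PreData (p : ℕ) (Y A : Subgroup H) [A.Normal] : Prop where
  comm : ∀ x ∈ Y, ∀ y ∈ Y, x * y = y * x
  expo : ∀ y ∈ Y, y ^ p = 1
  isP : IsPGroup p A
  core : ∀ N : Subgroup H, N.Normal → IsPGroup p N → N ≤ A
  normY : A ≤ Subgroup.normalizer (Y : Set H)
  gen : Subgroup.normalClosure ((Y ⊓ A : Subgroup H) : Set H) = A
  cent : Subgroup.centralizer (A : Set H) ≤ A
  closure : Subgroup.normalClosure (Y : Set H) = ⊤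
  proper : Subgroup.normalizer (Y : Set H) ≠ ⊤
  maxl : ∀ X : Subgroup H, Y ≤ X → X ≠ ⊤ → X ≤ Subgroup.normalizer (Y : Set H)

namespace PreData

variable {Y A : Subgroup H} [hAn : A.Normal] (c : PreData p Y A)
include c

omit [Fact p.Prime] [Finite H] in
theorem toData (hb : ∀ S : Subgroup (H ⧸ A), IsPGroup p S →
    {s : H ⧸ A | s ∈ S ∧ s ^ p = 1}.ncard ≤ Nat.card (Y.map (QuotientGroup.mk' A))) :
    Data p Y A :=
  ⟨c.comm, c.expo, c.isP, c.core, c.normY, c.gen, c.cent, c.closure, c.proper, c.maxl, hb⟩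

omit [Fact p.Prime] [Finite H] in
theorem map_expo {x : H ⧸ A} (hx : x ∈ Y.map (QuotientGroup.mk' A)) : x ^ p = 1 := by
  obtain ⟨y, hy, rfl⟩ := hx
  rw [← map_pow, c.expo y hy, map_one]

omit [Fact p.Prime] [Finite H] in
theorem map_isPGroup : IsPGroup p (Y.map (QuotientGroup.mk' A)) :=
  fun x => ⟨1, Subtype.ext (by simpa using c.map_expo x.2)⟩

omit [Fact p.Prime] [Finite H] in
theorem map_ne_bot : Y.map (QuotientGroup.mk' A) ≠ ⊥ := by
  intro h
  rw [Subgroup.map_eq_bot_iff, QuotientGroup.ker_mk'] at h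
  have hA : A = ⊤ := top_le_iff.1 (c.closure ▸ Subgroup.normalClosure_le_normal h)
  exact c.proper (top_le_iff.1 (hA ▸ c.normY))

theorem card_map : ∃ n, 0 < n ∧ Nat.card (Y.map (QuotientGroup.mk' A)) = p ^ n := by
  haveI := (Subgroup.nontrivial_iff_ne_bot _).2 c.map_ne_bot
  exact (IsPGroup.nontrivial_iff_card c.map_isPGroup).1 inferInstance

end PreData

theorem exists_p_pow_eq_one {A : Subgroup H} [A.Normal] (hA : IsPGroup p A) {h : H} {k : ℕ}
    (hk : QuotientGroup.mk' A h ^ p ^ k = 1) : ∃ m, orderOf h = p ^ m := by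
  have hmem : h ^ p ^ k ∈ A := by
    rw [← QuotientGroup.eq_one_iff]
    rw [← map_pow] at hk
    exact hk
  obtain ⟨j, hj⟩ := hA ⟨_, hmem⟩
  have hj' : h ^ p ^ (k + j) = 1 := by
    rw [pow_add, pow_mul]; exact congrArg Subtype.val hj
  obtain ⟨m, -, hm⟩ := (Nat.dvd_prime_pow Fact.out).1 (orderOf_dvd_of_pow_eq_one hj')
  exact ⟨m, hm⟩

/-- In the case of `SL₂` the image of `Y` can be taken upper unitriangular. -/
theorem sl2_adjust {Y A : Subgroup H} [hAn : A.Normal] (c : PreData p Y A) {F : Type} [Field F]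
    [Finite F] (hcard : Nat.card F = Nat.card (Y.map (QuotientGroup.mk' A)))
    (e₀ : H ⧸ A ≃* Matrix.SpecialLinearGroup (Fin 2) F) :
    CharP F p ∧ ∃ e : H ⧸ A ≃* Matrix.SpecialLinearGroup (Fin 2) F,
      (∀ t, ∃ y ∈ Y, e (QuotientGroup.mk' A y) = upperU t) ∧
      (∀ y ∈ Y, ∃ t, e (QuotientGroup.mk' A y) = upperU t) ∧
      ∀ S : Subgroup (H ⧸ A), IsPGroup p S →
        {s : H ⧸ A | s ∈ S ∧ s ^ p = 1}.ncard ≤ Nat.card (Y.map (QuotientGroup.mk' A)) := by
  obtain ⟨n, hn, hPn⟩ := c.card_map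
  haveI : CharP F p := by
    cases nonempty_fintype F
    obtain ⟨m, hpr, hm⟩ := FiniteField.card F (ringChar F)
    haveI := Fact.mk hpr
    have h1 : p ^ n = ringChar F ^ (m : ℕ) := by
      rw [← hm, ← Nat.card_eq_fintype_card, hcard, hPn]
    have h2 : p = ringChar F :=
      (Nat.prime_dvd_prime_iff_eq Fact.out hpr).1
        ((Fact.out : p.Prime).dvd_of_dvd_pow (h1 ▸ dvd_pow_self p hn.ne'))
    exact ringChar.of_eq h2.symm
  set P := Y.map (QuotientGroup.mk' A) with hP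
  obtain ⟨k, hk⟩ := exists_conj_upperU (P.map e₀.toMonoidHom) (c.map_isPGroup.map _)
  let e := e₀.trans (MulAut.conj k⁻¹)
  have he : ∀ s, e s = k⁻¹ * e₀ s * k := fun s => by simp [e]
  have hb : ∀ S : Subgroup (H ⧸ A), IsPGroup p S →
      {s : H ⧸ A | s ∈ S ∧ s ^ p = 1}.ncard ≤ Nat.card P := by
    intro S hS
    refine (Set.ncard_le_ncard (fun s hs => hs.1 : _ ⊆ (S : Set (H ⧸ A))) (Set.toFinite _)).trans ?_
    rw [← Nat.card_coe_set_eq, ← hcard]
    change Nat.card S ≤ _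
    rw [Nat.card_congr (S.equivMapOfInjective e₀.toMonoidHom e₀.injective).toEquiv]
    exact card_le_of_isPGroup _ (hS.map _)
  have hmem : ∀ y ∈ Y, ∃ t, e (QuotientGroup.mk' A y) = upperU t := fun y hy => by
    rw [he]
    exact hk _ ⟨_, ⟨y, hy, rfl⟩, rfl⟩
  have hupper : ∀ t, ∃ y ∈ Y, e (QuotientGroup.mk' A y) = upperU t := by
    have hP' : ∀ s : P, ∃ t, e s = upperU t := by
      rintro ⟨_, y, hy, rfl⟩
      exact hmem y hy
    choose f hf using hP'
    have hinj : Function.Injective f := fun s s' hss => Subtype.ext (e.injective (by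
      rw [hf, hf, hss]))
    have hsurj := (Nat.bijective_iff_injective_and_card f).2 ⟨hinj, hcard.symm⟩
    intro t
    obtain ⟨⟨_, y, hy, rfl⟩, hs⟩ := hsurj.2 t
    exact ⟨y, hy, by rw [← hs]; exact hf ⟨_, y, hy, rfl⟩⟩
  exact ⟨inferInstance, e, hupper, hmem, hb⟩

/-- The case of `SL₂`. -/
theorem orderOf_sl2 {Y A : Subgroup H} [hAn : A.Normal] (c : PreData p Y A) {F : Type} [Field F]
    [Finite F] (hcard : Nat.card F = Nat.card (Y.map (QuotientGroup.mk' A)))
    (e₀ : H ⧸ A ≃* Matrix.SpecialLinearGroup (Fin 2) F) {h a : H} (ha : a ∈ A)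
    (hfix : h ∈ fixStab Y a) (hnot : a ∉ fixSub Y) : ∃ m, orderOf h = p ^ m := by
  obtain ⟨hchar, e, hupper, hmem, hb⟩ := sl2_adjust c hcard e₀
  exact exists_p_pow_eq_one c.isP (k := 1) (by
    rw [pow_one]
    exact (c.toData hb).pow_eq_one_of_fixed e hupper hmem ha hfix hnot)

theorem suzuki_bound {Y A : Subgroup H} [hAn : A.Normal] {F : Type} [Field F]
    [Finite F] [CharP F 2] {θ : F →+* F} (hT : Suzuki.TitsEndo θ)
    (hcard : Nat.card F = Nat.card (Y.map (QuotientGroup.mk' A))) (ψ : H ⧸ A ≃* Suzuki.grp θ)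
    (S : Subgroup (H ⧸ A)) (hS : IsPGroup 2 S) :
    {s : H ⧸ A | s ∈ S ∧ s ^ 2 = 1}.ncard ≤ Nat.card (Y.map (QuotientGroup.mk' A)) := by
  rw [← hcard, ← Set.ncard_image_of_injective _ ψ.injective]
  refine (Set.ncard_le_ncard ?_ (Set.toFinite _)).trans
    (suzuki_sq_one_ncard hT (S.map ψ.toMonoidHom) (hS.map _))
  rintro _ ⟨s, ⟨hs, h2⟩, rfl⟩
  exact ⟨⟨s, hs, rfl⟩, by rw [← map_pow, h2, map_one]⟩

/-- The case of a quotient `Sz(q)`, `q > 2`. -/
theorem orderOf_suzuki {Y A : Subgroup H} [hAn : A.Normal] (c : PreData 2 Y A) {F : Type} [Field F]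
    [Finite F] [CharP F 2] {θ : F →+* F} (hT : Suzuki.TitsEndo θ)
    (hcard : Nat.card F = Nat.card (Y.map (QuotientGroup.mk' A))) (ψ : H ⧸ A ≃* Suzuki.grp θ)
    {h a : H} (ha : a ∈ A)
    (hfix : h ∈ fixStab Y a) (hnot : a ∉ fixSub Y) : ∃ m, orderOf h = 2 ^ m := by
  haveI : Fact (Nat.Prime 2) := ⟨Nat.prime_two⟩
  have hb := suzuki_bound hT hcard ψ
  obtain ⟨k, hk⟩ := (c.toData hb).isTwoElement_of_fixed (fun x r hr hr2 hord => by
    haveI := Fact.mk hr
    obtain ⟨i, hi, hinv⟩ := suzuki_exists_inverting hT (x := ψ x) (r := r)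
      (by rw [MulEquiv.orderOf_eq, hord]) hr2
    refine ⟨ψ.symm i, by rw [← map_mul, hi, map_one], ψ.injective ?_⟩
    rw [map_mul, map_mul, map_inv, map_inv, ψ.apply_symm_apply, hinv]) ha hfix hnot
  exact exists_p_pow_eq_one c.isP hk

/-- When `|Y : Y ∩ A| = 2` the quotient is dihedral. -/
theorem two_structure {Y A : Subgroup H} [hAn : A.Normal] (c : PreData 2 Y A)
    (hcard : Nat.card (Y.map (QuotientGroup.mk' A)) = 2) :
    (∀ S : Subgroup (H ⧸ A), IsPGroup 2 S →
      {s : H ⧸ A | s ∈ S ∧ s ^ 2 = 1}.ncard ≤ Nat.card (Y.map (QuotientGroup.mk' A))) ∧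
      ∀ (z : H ⧸ A) (r : ℕ), r.Prime → r ≠ 2 → orderOf z = r →
        ∃ i : H ⧸ A, i * i = 1 ∧ i * z * i⁻¹ = z⁻¹ := by
  haveI : Fact (Nat.Prime 2) := ⟨Nat.prime_two⟩
  set P := Y.map (QuotientGroup.mk' A) with hP
  obtain ⟨g, y, hy, hgy⟩ : ∃ g, ∃ y ∈ Y, g * y * g⁻¹ ∉ Subgroup.normalizer (Y : Set H) := by
    by_contra hne
    push Not at hne
    apply c.proper
    rw [eq_top_iff, ← c.closure, Subgroup.normalClosure, Subgroup.closure_le]
    intro w hw
    obtain ⟨v, hv, hconj⟩ := Group.mem_conjugatesOfSet_iff.1 hw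
    obtain ⟨k, rfl⟩ := isConj_iff.1 hconj
    exact hne k v hv
  set t := QuotientGroup.mk' A y with ht
  set t' := QuotientGroup.mk' A (g * y * g⁻¹) with ht'
  have ht1 : t ≠ 1 := fun h1 => hgy (c.normY (hAn.conj_mem y ((QuotientGroup.eq_one_iff y).1 h1) g))
  have htmem : t ∈ P := ⟨y, hy, rfl⟩
  have htt : t * t = 1 := by rw [← pow_two]; exact c.map_expo htmem
  have hs : t' = QuotientGroup.mk' A g * t * (QuotientGroup.mk' A g)⁻¹ := by
    simp only [ht', ht, map_mul, map_inv]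
  have htt' : t' * t' = 1 := by
    rw [hs, ← pow_two, conj_pow, pow_two, htt, mul_one, mul_inv_cancel]
  have hPle : ∀ s ∈ P, s = 1 ∨ s = t := by
    intro s hs'
    by_contra hne
    push Not at hne
    have hsub : ({1, t, s} : Set (H ⧸ A)) ⊆ (P : Set (H ⧸ A)) := by
      rintro z (rfl | rfl | rfl)
      exacts [one_mem _, htmem, hs']
    have h3 := Set.ncard_le_ncard hsub (Set.toFinite _)
    rw [Set.ncard_eq_three.2 ⟨1, t, s, ht1.symm, hne.1.symm, hne.2.symm, rfl⟩,
      ← Nat.card_coe_set_eq] at h3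
    change 3 ≤ Nat.card P at h3
    omega
  have hgen : Subgroup.closure ({t, t'} : Set (H ⧸ A)) = ⊤ := by
    by_contra hne
    set T := Subgroup.closure ({t, t'} : Set (H ⧸ A)) with hT
    refine hgy (c.maxl (T.comap (QuotientGroup.mk' A)) (fun z hz => ?_) (fun htop => hne ?_) ?_)
    · rcases hPle _ ⟨z, hz, rfl⟩ with e | e
      · exact Subgroup.mem_comap.2 (e ▸ one_mem _)
      · exact Subgroup.mem_comap.2 (e ▸ Subgroup.subset_closure (Set.mem_insert _ _))
    · rw [← Subgroup.map_comap_eq_self_of_surjective (QuotientGroup.mk'_surjective A) T, htop,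
        Subgroup.map_top_of_surjective _ (QuotientGroup.mk'_surjective A)]
    · exact Subgroup.mem_comap.2 (Subgroup.subset_closure (Set.mem_insert_of_mem _ rfl))
  have hodd := dihedral_odd htt htt' hgen ⟨_, hs⟩
  set x := t * t' with hx
  have hflipone : t * x * t⁻¹ = x⁻¹ := by
    rw [hx, mul_inv_rev, inv_eq_of_mul_eq_one_right htt, inv_eq_of_mul_eq_one_right htt',
      ← mul_assoc, htt, one_mul]
  have hrefl : ∀ i : ℤ, (t * x ^ i) * (t * x ^ i) = 1 := by
    intro i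
    have h1 : t * x ^ i * t⁻¹ = (x ^ i)⁻¹ := by rw [← conj_zpow, hflipone, inv_zpow]
    rw [inv_eq_of_mul_eq_one_right htt] at h1
    rw [← mul_assoc, h1, inv_mul_cancel]
  have hb : ∀ S : Subgroup (H ⧸ A), IsPGroup 2 S →
      {s : H ⧸ A | s ∈ S ∧ s ^ 2 = 1}.ncard ≤ Nat.card P := by
    intro S hS
    have hrot : ∀ i : ℤ, x ^ i ∈ S → x ^ i = 1 := by
      intro i hi
      obtain ⟨k, hk⟩ := hS ⟨_, hi⟩
      have hk' : (x ^ i) ^ 2 ^ k = 1 := congrArg Subtype.val hk
      rw [← orderOf_eq_one_iff]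
      refine Nat.eq_one_of_dvd_coprimes (a := 2 ^ k) (b := orderOf x) ?_
        (orderOf_dvd_of_pow_eq_one hk') (orderOf_dvd_of_pow_eq_one (by
          rw [← zpow_natCast, ← zpow_mul, mul_comm, zpow_mul, zpow_natCast, pow_orderOf_eq_one, one_zpow]))
      exact (Nat.coprime_two_left.2 hodd).pow_left k
    rw [hcard]
    by_cases hex : ∃ s₀ ∈ S, s₀ ≠ 1
    · obtain ⟨s₀, hs₀, hne₀⟩ := hex
      have hsub : {s : H ⧸ A | s ∈ S ∧ s ^ 2 = 1} ⊆ {1, s₀} := by
        rintro s ⟨hs', -⟩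
        by_cases h1 : s = 1
        · exact Or.inl h1
        refine Or.inr ?_
        obtain ⟨i, rfl | rfl⟩ := dihedral_forms htt htt' hgen s
        · exact absurd (hrot i hs') h1
        obtain ⟨j, rfl | rfl⟩ := dihedral_forms htt htt' hgen s₀
        · exact absurd (hrot j hs₀) hne₀
        have hij : x ^ (-i + j) ∈ S := by
          have h2 := mul_mem (inv_mem hs') hs₀
          rw [zpow_add, zpow_neg]
          simpa [mul_assoc] using h2
        have := hrot _ hij
        rw [zpow_add, zpow_neg, inv_mul_eq_one] at this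
        show t * x ^ i = t * x ^ j
        rw [this]
      exact (Set.ncard_le_ncard hsub (Set.toFinite _)).trans
        ((Set.ncard_insert_le _ _).trans (by rw [Set.ncard_singleton]))
    · push Not at hex
      refine (Set.ncard_le_ncard (t := {1}) (fun s hs' => hex s hs'.1) (Set.toFinite _)).trans ?_
      rw [Set.ncard_singleton]; norm_num
  refine ⟨hb, fun z r hr hr2 hord => ?_⟩
  obtain ⟨i, rfl | rfl⟩ := dihedral_forms htt htt' hgen z
  · exact ⟨t, htt, by rw [← conj_zpow, hflipone, inv_zpow]⟩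
  · exfalso
    have h2 : orderOf (t * x ^ i) ∣ 2 := orderOf_dvd_of_pow_eq_one (by rw [pow_two]; exact hrefl i)
    rw [hord] at h2
    exact hr2 ((Nat.prime_dvd_prime_iff_eq hr Nat.prime_two).1 h2)

/-- The case `|Y : Y ∩ A| = 2`: the quotient is dihedral. -/
theorem orderOf_two {Y A : Subgroup H} [hAn : A.Normal] (c : PreData 2 Y A)
    (hcard : Nat.card (Y.map (QuotientGroup.mk' A)) = 2)
    {h a : H} (ha : a ∈ A)
    (hfix : h ∈ fixStab Y a) (hnot : a ∉ fixSub Y) : ∃ m, orderOf h = 2 ^ m := by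
  obtain ⟨hb, hreal⟩ := two_structure c hcard
  haveI : Fact (Nat.Prime 2) := ⟨Nat.prime_two⟩
  obtain ⟨k, hk⟩ := (c.toData hb).isTwoElement_of_fixed hreal ha hfix hnot
  exact exists_p_pow_eq_one c.isP hk

end CfsgLib.FrakL

namespace CfsgLib.FrakL

open Cfsg

theorem preData_of_frakL {G : Type*} [Group G] [Finite G] {p : ℕ} [Fact p.Prime] {M L : Subgroup G}
    [(pCore p ↥L).Normal] (hL : IsInFrakL p M L) :
    PreData p ((largestPReducedOf p M).subgroupOf L) (pCore p ↥L) := by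
  set Y := largestPReducedOf p M with hY
  obtain ⟨hYL, hgen, hnorm, hmin, hcent, ⟨hlt, hmax⟩, -⟩ := hL
  obtain ⟨hc, hexp⟩ : IsElementaryAbelian p Y := LocalCharP.largestPReducedOf_elementaryAbelian M
  have hN : ∀ x : L, (x : G) ∈ Subgroup.normalizer (Y : Set G) →
      x ∈ Subgroup.normalizer ((Y.subgroupOf L : Subgroup L) : Set L) := fun x hx =>
    Subgroup.mem_normalizer_iff.2 fun y => by
      simp only [Subgroup.mem_subgroupOf, Subgroup.coe_mul, Subgroup.coe_inv]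
      exact Subgroup.mem_normalizer_iff.1 hx y
  have hN' : ∀ x : L, x ∈ Subgroup.normalizer ((Y.subgroupOf L : Subgroup L) : Set L) →
      (x : G) ∈ Subgroup.normalizer (Y : Set G) := fun x hx => by
    refine Subgroup.mem_normalizer_iff.2 fun y => ⟨fun hy => ?_, fun hy => ?_⟩
    · simpa [Subgroup.mem_subgroupOf] using
        (Subgroup.mem_normalizer_iff.1 hx ⟨y, hYL hy⟩).1 hy
    · have hyL : y ∈ L := by
        have := mul_mem (mul_mem (inv_mem x.2) (hYL hy)) x.2
        simpa [mul_assoc] using this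
      simpa [Subgroup.mem_subgroupOf] using
        (Subgroup.mem_normalizer_iff.1 hx ⟨y, hyL⟩).2 (by simpa [Subgroup.mem_subgroupOf] using hy)
  refine ⟨fun x hx y hy => Subtype.ext (show (x : G) * (y : G) = y * x from
      congrArg Subtype.val (hc.is_comm.comm (⟨(x : G), hx⟩ : Y) ⟨(y : G), hy⟩)),
    fun y hy => Subtype.ext (by simpa using hexp _ hy), CharP.isPGroup_pCore,
    fun N hn hp => CharP.le_pCore hn hp, fun x hx => hN x (hnorm ⟨x, hx, rfl⟩), ?_, hcent,
    hmin.1, fun htop => ?_, fun X hYX hX x hx => ?_⟩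
  · have e : (Y ⊓ pCoreOf p L).subgroupOf L = Y.subgroupOf L ⊓ pCore p ↥L := by
      have e1 : (pCoreOf p L).comap L.subtype = pCore p ↥L :=
        Subgroup.comap_map_eq_self_of_injective L.subtype_injective _
      rw [Subgroup.subgroupOf, Subgroup.comap_inf, e1]
      rfl
    rw [← e]
    exact (Subgroup.map_injective L.subtype_injective hgen).symm
  · refine hlt.ne (le_antisymm inf_le_left fun x hx => ⟨hx, hN' ⟨x, hx⟩ (htop ▸ Subgroup.mem_top _)⟩)
  · have hlt' : X.map L.subtype < L := by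
      refine lt_of_le_of_ne (Subgroup.map_subtype_le X) fun he => hX ?_
      refine Subgroup.map_injective L.subtype_injective (he.trans ?_)
      rw [← MonoidHom.range_eq_map, Subgroup.range_subtype]
    have hYX' : Y ≤ X.map L.subtype := fun y hy =>
      ⟨⟨y, hYL hy⟩, hYX (Subgroup.mem_subgroupOf.2 hy), rfl⟩
    exact hN x (hmax _ hYX' hlt' ⟨x, hx, rfl⟩).2

theorem relIndex_eq_card_map {G : Type*} [Group G] {L Y : Subgroup G} (hYL : Y ≤ L)
    (A : Subgroup ↥L) [A.Normal] :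
    (Y ⊓ A.map L.subtype).relIndex Y =
      Nat.card ((Y.subgroupOf L).map (QuotientGroup.mk' A)) := by
  have e : A = (A.map L.subtype).subgroupOf L :=
    (Subgroup.comap_map_eq_self_of_injective L.subtype_injective _).symm
  rw [Subgroup.inf_relIndex_left, ← Subgroup.relIndex_ker, QuotientGroup.ker_mk',
    ← Subgroup.relIndex_subgroupOf (H := A.map L.subtype) hYL, ← e]

theorem card_eq_two_of_dihedral {H : Type*} [Group H] [Finite H] {Y A : Subgroup H} [A.Normal]
    (c : PreData 2 Y A) {r : ℕ} (hr : r.Prime) (hr2 : r ≠ 2) (e : H ⧸ A ≃* DihedralGroup r) :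
    Nat.card (Y.map (QuotientGroup.mk' A)) = 2 := by
  haveI : Fact (Nat.Prime 2) := ⟨Nat.prime_two⟩
  obtain ⟨n, hn, hcard⟩ := c.card_map
  have hd : 2 ^ n ∣ 2 * r := by
    rw [← hcard, ← DihedralGroup.nat_card, ← Nat.card_congr e.toEquiv]
    exact Subgroup.card_subgroup_dvd_card _
  rw [hcard]
  obtain ⟨m, rfl⟩ : ∃ m, n = m + 1 := ⟨n - 1, by omega⟩
  rw [pow_succ, mul_comm] at hd
  have h1 : 2 ^ m ∣ r := Nat.dvd_of_mul_dvd_mul_left two_pos hd
  rcases (Nat.dvd_prime hr).1 h1 with h | h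
  · rw [pow_succ, h, one_mul]
  · exfalso
    rcases m.eq_zero_or_pos with rfl | hm
    · exact hr.ne_one (h.symm.trans (pow_zero 2))
    · exact hr2 ((Nat.prime_dvd_prime_iff_eq Nat.prime_two hr).1 (h ▸ dvd_pow_self 2 hm.ne')).symm

end CfsgLib.FrakL
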