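import Mathlib
import Cfsg.Agent.FrakL.Member

/-!
In the normaliser of `Y` modulo `A` the image of `Y` is a minimal normal subgroup.
-/

set_option autoImplicit false

namespace CfsgLib.FrakL

variable {H : Type*} [Group H] [Finite H]

/-- Every element of a finite field is a sum of two squares. -/
theorem exists_sq_add_sq {F : Type*} [Field F] [Finite F] (c : F) :
    ∃ a b : F, a ^ 2 + b ^ 2 = c := by
  cases nonempty_fintype F
  by_cases h : Fintype.card F % 2 = 1
  · obtain ⟨a, b, hab⟩ := FiniteField.exists_root_sum_quadratic (f := (Polynomial.X ^ 2 : Polynomial F))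
      (g := Polynomial.X ^ 2 - Polynomial.C c) (Polynomial.degree_X_pow 2)
      (Polynomial.degree_X_pow_sub_C two_pos c) h
    simp only [Polynomial.eval_pow, Polynomial.eval_X, Polynomial.eval_sub, Polynomial.eval_C] at hab
    exact ⟨a, b, by linear_combination hab⟩
  · have h2 : ringChar F = 2 := (FiniteField.even_card_iff_char_two).2 (Nat.mod_two_ne_one.1 h)
    haveI : CharP F 2 := ringChar.of_eq h2
    obtain ⟨a, ha⟩ := Suzuki.sq_surjective c
    exact ⟨a, 0, by simpa using ha⟩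

/-- `W` contains `P` whenever it is a nontrivial subgroup of it stable under its normaliser. -/
def MinimalInNormalizer {Q : Type*} [Group Q] (P : Subgroup Q) : Prop :=
  ∀ W : Subgroup Q, W ≤ P → W ≠ ⊥ →
    (∀ n ∈ Subgroup.normalizer (P : Set Q), ∀ w ∈ W, n * w * n⁻¹ ∈ W) → P ≤ W

theorem minimal_of_card_two {Q : Type*} [Group Q] [Finite Q] {P : Subgroup Q} (h : Nat.card P = 2) :
    MinimalInNormalizer P := by
  intro W hW hW1 _
  have h1 : Nat.card W ∣ 2 := h ▸ Subgroup.card_dvd_of_le hW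
  rcases (Nat.dvd_prime Nat.prime_two).1 h1 with h2 | h2
  · exact absurd (Subgroup.card_eq_one.1 h2) hW1
  · exact (Subgroup.eq_of_le_of_card_ge hW (by rw [h, h2])).ge

theorem minimal_sl2 {Y A : Subgroup H} [hAn : A.Normal] {F : Type} [Field F] [Finite F]
    (e : H ⧸ A ≃* Matrix.SpecialLinearGroup (Fin 2) F)
    (hupper : ∀ t, ∃ y ∈ Y, e (QuotientGroup.mk' A y) = upperU t)
    (hmem : ∀ y ∈ Y, ∃ t, e (QuotientGroup.mk' A y) = upperU t) :
    MinimalInNormalizer (Y.map (QuotientGroup.mk' A)) := by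
  set P := Y.map (QuotientGroup.mk' A) with hP
  intro W hW hW1 hn
  have hPu : ∀ s : H ⧸ A, s ∈ P ↔ ∃ t, e s = upperU t := by
    intro s
    constructor
    · rintro ⟨y, hy, rfl⟩; exact hmem y hy
    · rintro ⟨t, ht⟩
      obtain ⟨y, hy, he⟩ := hupper t
      exact ⟨y, hy, e.injective (he.trans ht.symm)⟩
  have hconj : ∀ (s : Fˣ) (t : F),
      torus s * upperU t * (torus s)⁻¹ = upperU ((s : F) * t * (s : F)) := by
    intro s t
    rw [mul_inv_eq_iff_eq_mul, upperU_mul_torus]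
    congr 2
    rw [Units.val_inv_eq_inv_val]
    field_simp
  have hnorm : ∀ s : Fˣ, e.symm (torus s) ∈ Subgroup.normalizer (P : Set (H ⧸ A)) := by
    intro s
    refine Subgroup.mem_normalizer_iff.2 fun x => ?_
    rw [hPu, hPu, map_mul, map_mul, map_inv, e.apply_symm_apply]
    constructor
    · rintro ⟨t, ht⟩
      exact ⟨_, by rw [ht, hconj]⟩
    · rintro ⟨t, ht⟩
      refine ⟨((s⁻¹ : Fˣ) : F) * t * ((s⁻¹ : Fˣ) : F), ?_⟩
      calc e x = (torus s)⁻¹ * (torus s * e x * (torus s)⁻¹) * torus s := by group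
        _ = (torus s)⁻¹ * upperU t * torus s := by rw [ht]
        _ = _ := by rw [mul_assoc, upperU_mul_torus, inv_mul_cancel_left]
  let T : AddSubgroup F :=
    { carrier := {t | e.symm (upperU t) ∈ W}
      zero_mem' := by
        show e.symm (upperU 0) ∈ W
        rw [upperU_zero, map_one]; exact one_mem _
      add_mem' := fun {a b} ha hb => by
        show e.symm (upperU (a + b)) ∈ W
        rw [upperU_add, map_mul]; exact mul_mem ha hb
      neg_mem' := fun {a} ha => by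
        show e.symm (upperU (-a)) ∈ W
        have : upperU (-a) = (upperU a)⁻¹ := eq_inv_of_mul_eq_one_left (by
          rw [← upperU_add, neg_add_cancel, upperU_zero])
        rw [this, map_inv]; exact inv_mem ha }
  have hsq : ∀ t ∈ T, ∀ a : F, a ^ 2 * t ∈ T := by
    intro t ht a
    rcases eq_or_ne a 0 with rfl | ha
    · simp [T.zero_mem]
    have h1 := hn _ (hnorm (Units.mk0 a ha)) _ ht
    rw [← map_inv, ← map_mul, ← map_mul, hconj] at h1
    show e.symm (upperU (a ^ 2 * t)) ∈ W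
    rw [show a ^ 2 * t = a * t * a by ring]
    simpa using h1
  obtain ⟨w, hw, hw1⟩ : ∃ w ∈ W, w ≠ 1 := by
    by_contra hne
    push Not at hne
    exact hW1 ((Subgroup.eq_bot_iff_forall W).2 hne)
  obtain ⟨v, hv⟩ := (hPu w).1 (hW hw)
  have hv0 : v ≠ 0 := fun h => hw1 (e.injective (by rw [hv, h, upperU_zero, map_one]))
  have hvT : v ∈ T := by
    show e.symm (upperU v) ∈ W
    rw [← hv, e.symm_apply_apply]; exact hw
  intro x hx
  obtain ⟨t, ht⟩ := (hPu x).1 hx
  obtain ⟨a, b, hab⟩ := exists_sq_add_sq (t / v)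
  have h1 := T.add_mem (hsq v hvT a) (hsq v hvT b)
  rw [← add_mul, hab, div_mul_cancel₀ t hv0] at h1
  have h2 : e.symm (upperU t) ∈ W := h1
  rwa [← ht, e.symm_apply_apply] at h2

theorem minimal_suzuki {Y A : Subgroup H} [hAn : A.Normal] (c : PreData 2 Y A) {F : Type} [Field F]
    [Finite F] [CharP F 2] {θ : F →+* F} (hT : Suzuki.TitsEndo θ)
    (hcard : Nat.card F = Nat.card (Y.map (QuotientGroup.mk' A))) (ψ : H ⧸ A ≃* Suzuki.grp θ) :
    MinimalInNormalizer (Y.map (QuotientGroup.mk' A)) := by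
  set P := Y.map (QuotientGroup.mk' A) with hP
  haveI : Fact (Nat.Prime 2) := ⟨Nat.prime_two⟩
  intro W hW hW1 hn
  obtain ⟨S, hS⟩ := (c.map_isPGroup.map ψ.toMonoidHom).exists_le_sylow
  obtain ⟨g, hg⟩ := MulAction.exists_smul_eq (Suzuki.grp θ) S (Suzuki.uSylow hT)
  let e := ψ.trans (MulAut.conj g)
  have he : ∀ s, e s = g * ψ s * g⁻¹ := fun s => by simp [e]
  have hz : ∀ s ∈ P, ∃ b, e s = Suzuki.uElt hT 0 b := by
    intro s hs
    have : e s ∈ Suzuki.uGrp hT := by
      rw [he, ← Suzuki.uSylow_coe hT, ← hg, Sylow.coe_subgroup_smul,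
        Subgroup.mem_pointwise_smul_iff_inv_smul_mem]
      simpa [MulAut.conj_inv_apply, MulAut.smul_def, mul_assoc] using hS ⟨s, hs, rfl⟩
    obtain ⟨a, b, hab⟩ := this
    have h : e s ^ 2 = 1 := by rw [← map_pow, c.map_expo hs, map_one]
    rw [hab, pow_two, Suzuki.uElt_mul, ← Suzuki.uElt_zero hT, Suzuki.uElt_inj] at h
    have ha : θ a * a = 0 := by
      linear_combination h.2 - b * (CharTwo.two_eq_zero : (2 : F) = 0)
    rcases mul_eq_zero.1 ha with ha | ha
    · rw [map_eq_zero] at ha; exact ⟨b, ha ▸ hab⟩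
    · exact ⟨b, ha ▸ hab⟩
  have hall : ∀ b, e.symm (Suzuki.uElt hT 0 b) ∈ P := by
    have hz' : ∀ s : P, ∃ b, e s = Suzuki.uElt hT 0 b := fun s => hz s s.2
    choose f hf using hz'
    have hinj : Function.Injective f := fun s s' h => Subtype.ext (e.injective (by rw [hf, hf, h]))
    intro b
    obtain ⟨s, hs⟩ := ((Nat.bijective_iff_injective_and_card f).2 ⟨hinj, hcard.symm⟩).2 b
    rw [← hs, ← hf, e.symm_apply_apply]
    exact s.2
  have hconj : ∀ (t : Fˣ) (b : F), Suzuki.tElt hT t * Suzuki.uElt hT 0 b * (Suzuki.tElt hT t)⁻¹ =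
      Suzuki.uElt hT 0 ((t : F) ^ 2 * θ t * b) := fun t b => by
    rw [Suzuki.tElt_conj_uElt, mul_zero]
  have hnorm : ∀ t, e.symm (Suzuki.tElt hT t) ∈ Subgroup.normalizer (P : Set (H ⧸ A)) := by
    have key : ∀ (t : Fˣ) (x : H ⧸ A), x ∈ P →
        e.symm (Suzuki.tElt hT t) * x * (e.symm (Suzuki.tElt hT t))⁻¹ ∈ P := by
      intro t x hx
      obtain ⟨b, hb⟩ := hz x hx
      have h1 := hall ((t : F) ^ 2 * θ t * b)
      rw [← hconj, ← hb, map_mul, map_mul, map_inv, e.symm_apply_apply] at h1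
      exact h1
    intro t
    refine Subgroup.mem_normalizer_iff.2 fun x => ⟨key t x, fun hx => ?_⟩
    have h1 := key t⁻¹ _ hx
    rw [← Suzuki.tElt_inv, map_inv, inv_inv] at h1
    simpa [mul_assoc] using h1
  obtain ⟨w, hw, hw1⟩ : ∃ w ∈ W, w ≠ 1 := by
    by_contra hne
    push Not at hne
    exact hW1 ((Subgroup.eq_bot_iff_forall W).2 hne)
  obtain ⟨b, hb⟩ := hz w (hW hw)
  have hb0 : b ≠ 0 := fun h => hw1 (e.injective (by rw [hb, h, Suzuki.uElt_zero, map_one]))
  intro x hx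
  obtain ⟨b', hb'⟩ := hz x hx
  rcases eq_or_ne b' 0 with h0 | h0
  · rw [h0, Suzuki.uElt_zero, ← map_one e] at hb'
    rw [e.injective hb']; exact one_mem _
  obtain ⟨u, hu⟩ := hT.surj (b' / b)
  obtain ⟨μ, hμ⟩ := Suzuki.theta_mul_self_surjective hT u
  have hμ0 : μ ≠ 0 := fun h => by
    have hu0 : u = 0 := by rw [← hμ, h]; simp
    rw [hu0, map_zero, eq_comm, div_eq_zero_iff] at hu
    exact hu.elim h0 hb0
  have h1 := hn _ (hnorm (Units.mk0 μ hμ0)) w hw
  have h2 : μ ^ 2 * θ μ * b = b' := by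
    have : θ (θ μ * μ) = b' / b := by rw [show θ μ * μ = u from hμ, hu]
    rw [map_mul, hT.sq] at this
    rw [this, div_mul_cancel₀ b' hb0]
  have h3 : e.symm (Suzuki.tElt hT (Units.mk0 μ hμ0)) * w *
      (e.symm (Suzuki.tElt hT (Units.mk0 μ hμ0)))⁻¹ = x := by
    apply e.injective
    rw [map_mul, map_mul, map_inv, e.apply_symm_apply, hb, hb', hconj, Units.val_mk0, h2]
  exact h3 ▸ h1

end CfsgLib.FrakL
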